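import Mathlib
import Groth.Agent.MagnetHom.FormalSat

/-! Equivariant morphisms out of `𝔸¹ × Y` over any base agreeing at nilpotent points agree. -/

set_option autoImplicit false
set_option maxHeartbeats 2000000
universe u
open CategoryTheory MonoidalCategory CartesianMonoidalCategory MonObj AlgebraicGeometry Opposite

namespace Groth.Agent.MagnetEt

open Groth.Agent.MagnetHom

variable {S : Scheme.{u}}

/-- Two equivariant morphisms out of `𝔸¹ × Y` agreeing at all nilpotent points agree. -/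
theorem eq_of_agreeNilp {Y X : Over S} (a : Magnet.MonAct (Magnet.AMonS S ℤ) X)
    (γ₁ γ₂ : Magnet.AMonS S NN ⊗ Y ⟶ X)
    (h₁ : Magnet.MonAct.IsEquivariant (actNY NN Y) a γ₁) (h₂ : Magnet.MonAct.IsEquivariant (actNY NN Y) a γ₂)
    (h : AgreeNilp γ₁ γ₂) : γ₁ = γ₂ := by
  let v := lift (toUnit Y ≫ vertex NN S) (𝟙 Y)
  choose O hO hOe using fun y => h.exists_nhd y
  let D : (Magnet.AMonS S NN ⊗ Y).left.Opens := ⨆ y, O y
  have hD : ∀ y, v.left y ∈ D := fun y => TopologicalSpace.Opens.mem_iSup.mpr ⟨y, hO y⟩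
  have hDe : D.ι ≫ γ₁.left = D.ι ≫ γ₂.left := by
    refine Scheme.hom_ext_of_forall _ _ fun x => ?_
    obtain ⟨y, hy⟩ := TopologicalSpace.Opens.mem_iSup.mp (show D.ι x ∈ D from x.2)
    refine ⟨D.ι ⁻¹ᵁ O y, hy, ?_⟩
    have e := Scheme.Hom.resLE_comp_ι D.ι (U := O y) (V := D.ι ⁻¹ᵁ O y) (le_refl _)
    calc (D.ι ⁻¹ᵁ O y).ι ≫ D.ι ≫ γ₁.left = (D.ι.resLE (O y) (D.ι ⁻¹ᵁ O y) (le_refl _) ≫ (O y).ι) ≫ γ₁.left := by
          rw [e, Category.assoc]
      _ = (D.ι.resLE (O y) (D.ι ⁻¹ᵁ O y) (le_refl _) ≫ (O y).ι) ≫ γ₂.left := by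
          rw [Category.assoc, Category.assoc]; exact congrArg _ (hOe y)
      _ = (D.ι ⁻¹ᵁ O y).ι ≫ D.ι ≫ γ₂.left := by rw [e, Category.assoc]
  haveI : Flat (Red.DS S ℤ).hom := flat_AMonS S ℤ
  haveI := surjective_sat (M := ℤ) NN D hD
  exact eq_of_agree_on_open (G := Red.DS S ℤ) (show Magnet.MonAct (Red.DS S ℤ) _ from actNY NN Y)
    (show Magnet.MonAct (Red.DS S ℤ) _ from a) γ₁ γ₂ h₁ h₂ D hDe

end Groth.Agent.MagnetEt
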