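import Mathlib
import Groth.Prelude.Def_Magnet4
import Groth.Agent.MagnetHom.FormalSat
import Groth.Agent.MagnetHom.Homotopy
import Groth.Agent.MagnetEt.AgreeNilp

/-! Equivariant morphisms out of `A(N) × T` agreeing on all truncations at a face are equal. -/

set_option autoImplicit false
set_option backward.isDefEq.respectTransparency false
set_option backward.isDefEq.respectTransparency.types false
set_option linter.style.haveILetI false
universe u

open CategoryTheory CategoryTheory.Limits MonoidalCategory CartesianMonoidalCategory MonObj AlgebraicGeometry Opposite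

namespace Groth.Agent.MagnetEt

open Groth.Agent.MagnetHom

noncomputable section

attribute [local instance 50] algZ
attribute [local instance 10000] Algebra.toModule
variable {S : Scheme.{u}}

attribute [-instance] AlgebraicGeometry.instGrpObjSpecAsOverSpec AlgebraicGeometry.instCommGrpObjSpecAsOverSpec

variable {M : Type} [AddCommGroup M] {X : Over S} (a : Magnet.MonAct (Magnet.AMonS S M) X)
  {N : AddSubmonoid M} (d : ↥N →+ ℕ)

/-- A point of `A(N)` killing the monomials of height greater than some bound. -/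
def Small {R : Type u} [CommRing R] (p : Multiplicative N →* R) : Prop :=
  ∃ n : ℕ, ∀ ν : N, n < d ν → p (Multiplicative.ofAdd ν) = 0

theorem ext_of_small (ψ : M →+ ℤ) (hψ : ∀ ν : N, ψ ν = d ν) {T : Over S}
    (φ₁ φ₂ : (Magnet.attr a N).obj (op T))
    (h : ∀ (R : Type u) (_ : CommRing R) (str : Spec (CommRingCat.of R) ⟶ S) (t : Over.mk str ⟶ T)
      (p : Multiplicative N →* R), Small d p → lift (pt R str p) t ≫ φ₁.1 = lift (pt R str p) t ≫ φ₂.1) :
    φ₁ = φ₂ := by
  let dN : N →+ NN :=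
    { toFun := fun ν => ⟨ψ ν, d ν, by simp [hψ]⟩
      map_zero' := Subtype.ext (map_zero ψ)
      map_add' := fun x y => Subtype.ext (map_add ψ _ _) }
  let σ : Magnet.AMonS S NN ⊗ (Magnet.AMonS S N ⊗ T) ⟶ Magnet.AMonS S N ⊗ T :=
    lift ((fst _ _ ≫ Magnet.AMonS.map S dN) * (snd _ _ ≫ fst _ _)) (snd _ _ ≫ snd _ _)
  have heq : ∀ φ : (Magnet.attr a N).obj (op T), Magnet.MonAct.IsEquivariant (actNY NN (Magnet.AMonS S N ⊗ T))
      (a.restrict (Magnet.AMonS.map S ψ)) (σ ≫ φ.1) := by
    intro φ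
    rw [Magnet.MonAct.mem_eqvHom_iff]
    intro T' g c y
    have h' := (Magnet.MonAct.mem_eqvHom_iff _).mp φ.2 T' (g ≫ Magnet.AMonS.map S ψ)
      ((c ≫ Magnet.AMonS.map S dN) * (y ≫ fst _ _)) (y ≫ snd _ _)
    change lift (lift _ _ ≫ ((Magnet.MonAct.regular _).restrict (Magnet.AMonS.map S N.subtype)).act) _ ≫ φ.1 = _ at h'
    change lift (lift g c ≫ ((Magnet.MonAct.regular _).restrict (Magnet.AMonS.map S NN.subtype)).act) y ≫ _ = _
    rw [Magnet.MonAct.lift_restrict_act, Magnet.MonAct.lift_regular_act] at h' ⊢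
    rw [Magnet.MonAct.lift_restrict_act]
    have hl : ∀ c' : T' ⟶ Magnet.AMonS S NN, lift c' y ≫ σ =
        lift ((c' ≫ Magnet.AMonS.map S dN) * (y ≫ fst _ _)) (y ≫ snd _ _) := fun c' => by
      simp [σ, comp_lift, MonObj.comp_mul]
    rw [reassoc_of% hl, reassoc_of% hl, ← h', MonObj.mul_comp, Category.assoc, Category.assoc, ← Magnet.AMonS.map_comp,
      ← Magnet.AMonS.map_comp, _root_.mul_assoc]
    congr 3
  have key : ∀ φ : (Magnet.attr a N).obj (op T), lift 1 (𝟙 _) ≫ σ ≫ φ.1 = φ.1 := by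
    intro φ
    have : lift (1 : Magnet.AMonS S N ⊗ T ⟶ Magnet.AMonS S NN) (𝟙 _) ≫ σ = 𝟙 _ := by
      simp [σ, comp_lift, MonObj.comp_mul]
    rw [reassoc_of% this]
  refine Subtype.ext ((key φ₁).symm.trans (Eq.trans (congrArg (lift 1 (𝟙 _) ≫ ·) ?_) (key φ₂)))
  refine eq_of_agreeNilp (a.restrict (Magnet.AMonS.map S ψ)) _ _ (heq φ₁) (heq φ₂) fun T' m y ⟨n, hn⟩ => ?_
  refine hom_ext_pts fun R _ str r => ?_
  obtain ⟨p, hp⟩ := exists_eq_pt R str (r ≫ m)
  obtain ⟨q, hq⟩ := exists_eq_pt R str (r ≫ y ≫ fst _ _)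
  have hn' := congrArg (fun z => r ≫ z) (hn (toUnit T' ≫ vertex NN S))

  rw [MonObj.comp_mul, MonObj.comp_pow, hp, ← Category.assoc] at hn'
  rw [toUnit_unique (r ≫ toUnit T') (toUnit (Over.mk str)), toUnit_vertex, pt_pow, ← pt_mul] at hn'
  have hp1 : p (Multiplicative.ofAdd oneN) ^ (n + 1) = 0 := by
    have := DFunLike.congr_fun (pt_injective R str hn') (Multiplicative.ofAdd oneN)
    rw [MonoidHom.mul_apply, vertexChar_apply_nonunit NN R oneN (fun ⟨k, hk⟩ => by simp at hk), mul_zero,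
      MonoidHom.pow_apply] at this
    exact this.symm
  let p' : Multiplicative N →* R := p.comp (AddMonoidHom.toMultiplicative dN) * q
  have hs : Small d p' := by
    refine ⟨n, fun ν hν => ?_⟩
    have e : dN ν = d ν • oneN := Subtype.ext (by simp [dN, hψ])
    obtain ⟨k, hk⟩ := Nat.exists_eq_add_of_le (Nat.succ_le_of_lt hν)
    change p (Multiplicative.ofAdd (dN ν)) * q _ = 0
    rw [e, ofAdd_nsmul, map_pow, hk, Nat.succ_eq_add_one, pow_add, hp1, zero_mul, zero_mul]
  have hl : r ≫ lift m y ≫ σ = lift (pt R str p') (r ≫ y ≫ snd _ _) := by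
    simp only [σ, comp_lift, MonObj.comp_mul, lift_fst_assoc, lift_snd_assoc, ← Category.assoc r m, hp, pt_map, hq,
      ← pt_mul]
    rfl
  have h' := h R _ str (r ≫ y ≫ snd _ _) p' hs
  rw [← hl, Category.assoc, Category.assoc, Category.assoc, Category.assoc] at h'
  exact h'

end

end Groth.Agent.MagnetEt
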