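import Mathlib
import Groth.Agent.SmoothLiftLib.Nbhd
import Groth.Agent.Boot.Coord
import Groth.Agent.AvgMap.SmoothLift

/-! Lifting along nilpotent extensions of affine schemes for étale morphisms. -/

set_option autoImplicit false
set_option linter.style.haveILetI false
universe u

open CategoryTheory CategoryTheory.Limits AlgebraicGeometry

namespace Groth.Agent.MagnetEt

variable {A A₀ : Type u} [CommRing A] [CommRing A₀] (q : A →+* A₀) (hq : Function.Surjective q) (k : ℕ)
  (hk : RingHom.ker q ^ (k + 1) = ⊥) {U X : Scheme.{u}}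

theorem isNilpotent_ker_SpecMap_pow (hk : RingHom.ker q ^ (k + 1) = ⊥) :
    IsNilpotent (Spec.map (CommRingCat.ofHom q)).ker := by
  refine ⟨k + 1, Scheme.IdealSheafData.ext_of_isAffine ?_⟩
  simp only [Scheme.IdealSheafData.ideal_pow, Pi.pow_apply, Scheme.Hom.ker_apply]
  rw [show ((0 : Scheme.IdealSheafData (Spec (CommRingCat.of A)))).ideal ⟨⊤, isAffineOpen_top _⟩ = ⊥ from rfl]
  let e := (Scheme.ΓSpecIso (CommRingCat.of A)).commRingCatIsoToRingEquiv
  have key : RingHom.ker ((Spec.map (CommRingCat.ofHom q)).app ⊤).hom ≤ (RingHom.ker q).comap e.toRingHom := by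
    intro z hz
    rw [RingHom.mem_ker] at hz
    rw [Ideal.mem_comap, RingHom.mem_ker]
    have h := congrArg (fun φ => φ.hom z) (Scheme.ΓSpecIso_naturality (CommRingCat.ofHom q))
    simp only [CommRingCat.hom_comp, RingHom.comp_apply] at h
    rw [show ((Spec.map (CommRingCat.ofHom q)).appTop).hom z = 0 from hz, map_zero] at h
    exact h.symm
  refine le_bot_iff.mp ((Ideal.pow_right_mono key _).trans ((Ideal.le_comap_pow _ _).trans ?_))
  rw [hk, ← RingHom.ker_eq_comap_bot, (RingHom.injective_iff_ker_eq_bot e.toRingHom).mp e.injective]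

include hq hk in
theorem hom_ext_of_nilpotent (f : U ⟶ X) [FormallyUnramified f] {l₁ l₂ : Spec (CommRingCat.of A) ⟶ U}
    (h₀ : Spec.map (CommRingCat.ofHom q) ≫ l₁ = Spec.map (CommRingCat.ofHom q) ≫ l₂) (h : l₁ ≫ f = l₂ ≫ f) :
    l₁ = l₂ := by
  haveI : IsClosedImmersion (Spec.map (CommRingCat.ofHom q)) := IsClosedImmersion.spec_of_surjective _ hq
  exact FormallyUnramified.hom_ext _ (isNilpotent_ker_SpecMap_pow q k hk) f h₀ h

include hq hk in
theorem exists_lift_of_nilpotent (f : U ⟶ X) [Smooth f] (a : Spec (CommRingCat.of A₀) ⟶ U)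
    (b : Spec (CommRingCat.of A) ⟶ X) (w : Spec.map (CommRingCat.ofHom q) ≫ b = a ≫ f) :
    ∃ l : Spec (CommRingCat.of A) ⟶ U, Spec.map (CommRingCat.ofHom q) ≫ l = a ∧ l ≫ f = b := by
  let e := RingHom.quotientKerEquivOfSurjective hq
  have he : e.toRingHom.comp (Ideal.Quotient.mk (RingHom.ker q)) = q := RingHom.ext fun x => rfl
  have he' : e.symm.toRingHom.comp q = Ideal.Quotient.mk (RingHom.ker q) := RingHom.ext fun x => by
    apply e.injective
    change e (e.symm (q x)) = _
    rw [RingEquiv.apply_symm_apply]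
    rfl
  obtain ⟨l, h₁, h₂⟩ := AvgMap.exists_lift_nilp f k (CommRingCat.of A) (RingHom.ker q) hk
    (Spec.map (CommRingCat.ofHom e.symm.toRingHom) ≫ a) b (by
      rw [Category.assoc, ← w, ← Category.assoc, ← Spec.map_comp, ← CommRingCat.ofHom_comp, he'])
  refine ⟨l, ?_, h₂⟩
  rw [← he, CommRingCat.ofHom_comp, Spec.map_comp, Category.assoc]
  refine (congrArg (Spec.map (CommRingCat.ofHom e.toRingHom) ≫ ·) h₁).trans ?_
  rw [← Category.assoc, ← Spec.map_comp, ← CommRingCat.ofHom_comp,
    show e.toRingHom.comp e.symm.toRingHom = RingHom.id _ from RingHom.ext e.apply_symm_apply]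
  exact (congrArg (· ≫ a) (Spec.map_id _)).trans (Category.id_comp a)

end Groth.Agent.MagnetEt
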