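import Mathlib
import Groth.Prelude.Def_Magnet4
import Groth.Agent.MagnetHom.PushAff

/-! Truncations of `C[N]` by a height function of a face, and the comultiplication into `C[N][M]`. -/

set_option autoImplicit false
set_option linter.style.haveILetI false
universe u

open CategoryTheory AlgebraicGeometry

namespace Groth.Agent.MagnetEt

open Groth.Agent.MagnetHom

noncomputable section

variable {M : Type} [AddCommMonoid M] {N Q : AddSubmonoid M} (C : Type u) [CommRing C] (d : ↥N →+ ℕ)

/-- The monomials of height greater than `n`. -/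
def hi (n : ℕ) : Ideal (GA C N) :=
  Ideal.span (MonoidAlgebra.of C (Multiplicative N) '' {m | n < d (Multiplicative.toAdd m)})

/-- The truncation. -/
abbrev Tr (n : ℕ) : Type u := GA C N ⧸ hi C d n

/-- The projection to the truncation. -/
abbrev mk (n : ℕ) : GA C N →+* Tr C d n := Ideal.Quotient.mk (hi C d n)

theorem mem_hi {n : ℕ} {a : GA C N} :
    a ∈ hi C d n ↔ ∀ m, a.coeff m ≠ 0 → n < d (Multiplicative.toAdd m) := by
  rw [hi, MonoidAlgebra.mem_ideal_span_of_image]
  refine ⟨fun h m hm => ?_, fun h m hm => ⟨m, h m (Finsupp.mem_support_iff.1 hm), 1, (one_mul m).symm⟩⟩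
  obtain ⟨m', hm', e, rfl⟩ := h m (Finsupp.mem_support_iff.2 hm)
  rw [toAdd_mul, map_add]
  exact lt_of_lt_of_le hm' (Nat.le_add_left _ _)

theorem mk_eq_iff {n : ℕ} {a b : GA C N} :
    mk C d n a = mk C d n b ↔ ∀ m, d (Multiplicative.toAdd m) ≤ n → a.coeff m = b.coeff m := by
  rw [Ideal.Quotient.eq, mem_hi]
  simp only [MonoidAlgebra.coeff_sub, Finsupp.sub_apply, sub_ne_zero]
  refine forall_congr' fun m => ?_
  rw [← not_lt]
  exact not_imp_comm

theorem hi_mono {m n : ℕ} (h : m ≤ n) : hi C d n ≤ hi C d m :=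
  Ideal.span_mono (Set.image_mono fun _ hk => lt_of_le_of_lt h hk)

/-- The transition between truncations. -/
abbrev tr {m n : ℕ} (h : m ≤ n) : Tr C d n →+* Tr C d m := Ideal.Quotient.factor (hi_mono C d h)

theorem tr_mk {m n : ℕ} (h : m ≤ n) (a : GA C N) : tr C d h (mk C d n a) = mk C d m a := rfl

theorem eq_of_forall_mk {a b : GA C N} (h : ∀ n, mk C d n a = mk C d n b) : a = b :=
  MonoidAlgebra.coeff_injective <| Finsupp.ext fun m =>
    (mk_eq_iff C d).1 (h (d (Multiplicative.toAdd m))) m le_rfl

theorem hi_zero_pow_le (k : ℕ) : hi C d 0 ^ (k + 1) ≤ hi C d k := by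
  induction k with
  | zero => rw [pow_one]
  | succ k ih =>
    rw [pow_succ]
    refine (Ideal.mul_mono_left ih).trans (Ideal.mul_le.2 fun x hx y hy => ?_)
    classical
    rw [mem_hi] at hx hy ⊢
    intro m hm
    have := MonoidAlgebra.support_coeff_mul_subset x y (Finsupp.mem_support_iff.2 hm)
    obtain ⟨p, hp, q, hq, rfl⟩ := Finset.mem_mul.1 this
    rw [toAdd_mul, map_add]
    have := hx p (Finsupp.mem_support_iff.1 hp)
    have := hy q (Finsupp.mem_support_iff.1 hq)
    omega

theorem isNilpotent_ker_tr (n : ℕ) : RingHom.ker (tr C d (Nat.zero_le n)) ^ (n + 1) = ⊥ := by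
  rw [Ideal.Quotient.factor_ker, ← Ideal.map_pow, eq_bot_iff, Ideal.map_le_iff_le_comap, ← RingHom.ker_eq_comap_bot,
    Ideal.mk_ker]
  exact hi_zero_pow_le C d n

variable {d}

theorem ker_faceGA (hQ : Magnet.IsFace N Q) (hd : ∀ n : N, d n = 0 ↔ (n : M) ∈ Q) :
    RingHom.ker (faceGA C hQ) = hi C d 0 := by
  classical
  have hcoeff : ∀ (a : GA C N) (q : Multiplicative Q), (faceGA C hQ a).coeff q =
      a.coeff (Multiplicative.ofAdd (AddSubmonoid.inclusion hQ.le (Multiplicative.toAdd q))) := by
    intro a q
    induction a using MonoidAlgebra.induction_linear with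
    | zero => simp
    | add p r hp hr => simp only [map_add, MonoidAlgebra.coeff_add, Finsupp.add_apply, hp, hr]
    | single k r =>
      rw [faceGA_single]
      split_ifs with hk
      · have hiff : (Multiplicative.ofAdd (⟨_, hk⟩ : Q) = q) ↔
            (k = Multiplicative.ofAdd (AddSubmonoid.inclusion hQ.le (Multiplicative.toAdd q))) := by
          constructor
          · rintro rfl; exact Multiplicative.toAdd.injective (Subtype.ext rfl)
          · rintro rfl; exact Multiplicative.toAdd.injective (Subtype.ext rfl)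
        simp [MonoidAlgebra.coeff_single, Finsupp.single_apply, hiff]
      · have hne : k ≠ Multiplicative.ofAdd (AddSubmonoid.inclusion hQ.le (Multiplicative.toAdd q)) := by
          rintro rfl
          exact hk (Multiplicative.toAdd q).2
        simp [MonoidAlgebra.coeff_single, Finsupp.single_apply, hne]
  ext a
  rw [RingHom.mem_ker, mem_hi]
  constructor
  · intro h m hm
    refine Nat.pos_of_ne_zero fun h0 => hm ?_
    have := hcoeff a (Multiplicative.ofAdd ⟨_, (hd _).1 h0⟩)
    rw [h] at this
    exact (this.trans (congrArg a.coeff (Multiplicative.toAdd.injective (Subtype.ext rfl)))).symm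
  · intro h
    refine MonoidAlgebra.coeff_injective (Finsupp.ext fun q => ?_)
    rw [hcoeff]
    by_contra hne
    exact (h _ hne).ne' ((hd _).2 (Multiplicative.toAdd q).2)

variable (d)

/-- The face projection on a truncation. -/
def trFace (hQ : Magnet.IsFace N Q) (hd : ∀ n : N, d n = 0 ↔ (n : M) ∈ Q) (n : ℕ) : Tr C d n →+* GA C Q :=
  Ideal.Quotient.lift _ (faceGA C hQ) fun a ha => by
    have : a ∈ RingHom.ker (faceGA C hQ) := by rw [ker_faceGA C hQ hd]; exact hi_mono C d (Nat.zero_le n) ha
    exact this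

theorem trFace_mk (hQ : Magnet.IsFace N Q) (hd : ∀ n : N, d n = 0 ↔ (n : M) ∈ Q) (n : ℕ) (a : GA C N) :
    trFace C d hQ hd n (mk C d n a) = faceGA C hQ a := rfl

theorem trFace_surjective (hQ : Magnet.IsFace N Q) (hd : ∀ n : N, d n = 0 ↔ (n : M) ∈ Q) (n : ℕ) :
    Function.Surjective (trFace C d hQ hd n) := by
  intro b
  classical
  refine ⟨mk C d n (MonoidAlgebra.mapDomainRingHom C (AddMonoidHom.toMultiplicative (AddSubmonoid.inclusion hQ.le)) b), ?_⟩
  rw [trFace_mk]
  refine RingHom.congr_fun (show (faceGA C hQ).comp _ = RingHom.id _ from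
    MonoidAlgebra.ringHom_ext (fun c => ?_) fun m => ?_) b
  · rw [RingHom.comp_apply, RingHom.id_apply, MonoidAlgebra.mapDomainRingHom_apply, MonoidAlgebra.mapDomain_single]
    exact Magnet.faceAlgHom_single_of_mem C hQ _ Q.zero_mem c
  · rw [RingHom.comp_apply, RingHom.id_apply, MonoidAlgebra.mapDomainRingHom_apply, MonoidAlgebra.mapDomain_single]
    exact Magnet.faceAlgHom_single_of_mem C hQ _ (Multiplicative.toAdd m).2 1

theorem ker_trFace (hQ : Magnet.IsFace N Q) (hd : ∀ n : N, d n = 0 ↔ (n : M) ∈ Q) (n : ℕ) :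
    RingHom.ker (trFace C d hQ hd n) ^ (n + 1) = ⊥ := by
  have h : RingHom.ker (trFace C d hQ hd n) = (hi C d 0).map (mk C d n) := by
    change RingHom.ker (Ideal.Quotient.lift (hi C d n) (faceGA C hQ) _) = _
    rw [Ideal.ker_quotient_lift, ker_faceGA C hQ hd]
  rw [h, ← Ideal.map_pow, eq_bot_iff, Ideal.map_le_iff_le_comap, ← RingHom.ker_eq_comap_bot, Ideal.mk_ker]
  exact hi_zero_pow_le C d n

/-- `C[N] → C[N][M]`, `ν ↦ ν ⊗ ν`. -/
def dlt : GA C N →+* GA (GA C N) M :=
  MonoidAlgebra.liftNCRingHom ((MonoidAlgebra.singleOneRingHom : GA C N →+* _).comp MonoidAlgebra.singleOneRingHom)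
    (((MonoidAlgebra.singleOneRingHom : GA C N →+* GA (GA C N) M) : GA C N →* GA (GA C N) M).comp (MonoidAlgebra.of C (Multiplicative N)) *
      (MonoidAlgebra.of (GA C N) (Multiplicative M)).comp (AddMonoidHom.toMultiplicative N.subtype))
    (fun _ _ => mul_comm (G := GA (GA C N) M) _ _)

theorem dlt_single (m : Multiplicative N) (c : C) :
    dlt C (MonoidAlgebra.single m c) =
      MonoidAlgebra.single (AddMonoidHom.toMultiplicative N.subtype m) (MonoidAlgebra.single m c) := by
  simp [dlt, MonoidAlgebra.single_mul_single]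

theorem coeff_dlt (a : GA C N) (m : Multiplicative N) :
    (dlt C a).coeff (AddMonoidHom.toMultiplicative N.subtype m) = MonoidAlgebra.single m (a.coeff m) := by
  classical
  induction a using MonoidAlgebra.induction_linear with
  | zero => simp
  | add p r hp hr => simp only [map_add, MonoidAlgebra.coeff_add, Finsupp.add_apply, hp, hr, MonoidAlgebra.single_add]
  | single k r =>
    have hinj : Function.Injective (AddMonoidHom.toMultiplicative N.subtype) := fun u v e =>
      Multiplicative.toAdd.injective (N.subtype_injective (congrArg Multiplicative.toAdd e))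
    rw [dlt_single]
    by_cases h : k = m
    · subst h; simp [MonoidAlgebra.coeff_single, Finsupp.single_apply]
    · simp [MonoidAlgebra.coeff_single, Finsupp.single_apply, h, hinj.ne h]

/-- `C[N]/H_n → (C[N]/H_n)[M]`. -/
def dltTr (n : ℕ) : Tr C d n →+* GA (Tr C d n) M :=
  Ideal.Quotient.lift _ ((MonoidAlgebra.mapRingHom (Multiplicative M) (mk C d n)).comp (dlt C)) fun a ha => by
    refine RingHom.mem_ker.1 ((?_ : hi C d n ≤ RingHom.ker _) ha)
    refine Ideal.span_le.2 ?_
    rintro _ ⟨m, hm, rfl⟩
    rw [SetLike.mem_coe, RingHom.mem_ker, RingHom.comp_apply, MonoidAlgebra.of_apply, dlt_single,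
      MonoidAlgebra.mapRingHom_single]
    have : mk C d n (MonoidAlgebra.single m 1) = 0 :=
      Ideal.Quotient.eq_zero_iff_mem.2 (Ideal.subset_span ⟨m, hm, rfl⟩)
    rw [this, MonoidAlgebra.single_zero]

theorem dltTr_mk (n : ℕ) (a : GA C N) :
    dltTr C d n (mk C d n a) = MonoidAlgebra.mapRingHom (Multiplicative M) (mk C d n) (dlt C a) := rfl

/-- A compatible family of maps to the truncations compatible with a coaction comes from a map to `C[N]`. -/
theorem exists_limit {B : Type u} [CommRing B] (c : B →+* GA B M) (g : ∀ n, B →+* Tr C d n)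
    (hg : ∀ m n (h : m ≤ n), (tr C d h).comp (g n) = g m)
    (hc : ∀ n, (MonoidAlgebra.mapRingHom (Multiplicative M) (g n)).comp c = (dltTr C d n).comp (g n)) :
    ∃ h : B →+* GA C N, (∀ n, (mk C d n).comp h = g n) ∧
      (MonoidAlgebra.mapRingHom (Multiplicative M) h).comp c = (dlt C).comp h := by
  classical
  have key : ∀ b : B, ∃ a : GA C N, ∀ n, g n b = mk C d n a := by
    intro b
    let ι : Multiplicative N → Multiplicative M := AddMonoidHom.toMultiplicative N.subtype
    have hι : Function.Injective ι := fun u v e =>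
      Multiplicative.toAdd.injective (N.subtype_injective (congrArg Multiplicative.toAdd e))
    let S : Finset (Multiplicative N) := (c b).coeff.support.preimage ι hι.injOn
    let K : ℕ := S.sup fun m => d (Multiplicative.toAdd m)
    have hsupp : ∀ n, ∀ r : GA C N, g n b = mk C d n r → ∀ m, m ∉ S → d (Multiplicative.toAdd m) ≤ n → r.coeff m = 0 := by
      intro n r hr m hm hmn
      have h0 : (c b).coeff (ι m) = 0 := by
        by_contra h
        exact hm (Finset.mem_preimage.2 (Finsupp.mem_support_iff.2 h))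
      have e := congrArg (fun z : GA (Tr C d n) M => z.coeff (ι m)) (RingHom.congr_fun (hc n) b)
      simp only [RingHom.comp_apply, hr, dltTr_mk, MonoidAlgebra.coeff_mapRingHom, Finsupp.mapRange_apply, h0, map_zero] at e
      rw [coeff_dlt] at e
      have := (mk_eq_iff C d).1 (e.symm.trans (map_zero (mk C d n)).symm) m hmn
      simpa using this
    choose r hr using fun n => Ideal.Quotient.mk_surjective (g n b)
    let a : GA C N := MonoidAlgebra.ofCoeff ((r K).coeff.filter (· ∈ S))
    refine ⟨a, fun n => ?_⟩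
    rw [← hr n, mk_eq_iff]
    intro m hm
    change _ = ((r K).coeff.filter (· ∈ S)) m
    by_cases hS : m ∈ S
    · rw [Finsupp.filter_apply_pos _ _ hS]
      have hK : d (Multiplicative.toAdd m) ≤ K := Finset.le_sup (f := fun m => d (Multiplicative.toAdd m)) hS
      have hmin : ∀ i j (h : i ≤ j), mk C d i (r j) = mk C d i (r i) := fun i j h => by
        rw [← tr_mk C d h, hr, ← RingHom.comp_apply, hg, hr]
      rcases le_total n K with h | h
      · exact ((mk_eq_iff C d).1 (hmin n K h) m hm).symm
      · exact (mk_eq_iff C d).1 (hmin K n h) m hK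
    · rw [Finsupp.filter_apply_neg _ _ hS]
      exact hsupp n (r n) (hr n).symm m hS hm
  choose a ha using key
  let h : B →+* GA C N :=
    { toFun := a
      map_one' := eq_of_forall_mk C d fun n => by rw [← ha, map_one, map_one]
      map_mul' := fun x y => eq_of_forall_mk C d fun n => by rw [← ha, map_mul, map_mul, ← ha, ← ha]
      map_zero' := eq_of_forall_mk C d fun n => by rw [← ha, map_zero, map_zero]
      map_add' := fun x y => eq_of_forall_mk C d fun n => by rw [← ha, map_add, map_add, ← ha, ← ha] }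
  have hh : ∀ n, (mk C d n).comp h = g n := fun n => RingHom.ext fun b => (ha b n).symm
  refine ⟨h, hh, RingHom.ext fun b => MonoidAlgebra.coeff_injective <| Finsupp.ext fun k =>
    eq_of_forall_mk C d fun n => ?_⟩
  have e := congrArg (fun z : GA (Tr C d n) M => z.coeff k) (RingHom.congr_fun (hc n) b)
  rw [← hh n] at e
  simpa [dltTr_mk] using e

end

end Groth.Agent.MagnetEt
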