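import Mathlib
import Groth.Prelude.Def_Magnet4
import Groth.Agent.MagnetHom.AttrRep
import Groth.Agent.MagnetHom.Eval
import Groth.Agent.MagnetEt.Trunc
import Groth.Agent.MagnetEt.Lift
import Groth.Agent.MagnetEt.Agree

/-! The face square of attractors along an étale map, on an affine test scheme inside a chart. -/

set_option autoImplicit false
set_option backward.isDefEq.respectTransparency false
set_option backward.isDefEq.respectTransparency.types false
set_option linter.style.haveILetI false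
set_option maxHeartbeats 1000000
universe u

open CategoryTheory CategoryTheory.Limits MonoidalCategory CartesianMonoidalCategory MonObj AlgebraicGeometry Opposite

namespace Groth.Agent.MagnetEt

open Groth.Agent.MagnetHom

noncomputable section

attribute [local instance 50] algZ
attribute [local instance 10000] Algebra.toModule
attribute [-instance] AlgebraicGeometry.instGrpObjSpecAsOverSpec AlgebraicGeometry.instCommGrpObjSpecAsOverSpec

variable {S : Scheme.{u}}

/-- The ring map of a point of `A(L) × Spec C`. -/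
abbrev ev {C D : Type u} [CommRing C] [CommRing D] {L : Type} [AddCommMonoid L] (φ : C →+* D)
    (p : Multiplicative L →* D) : GA C L →+* D :=
  MonoidAlgebra.liftNCRingHom φ p (fun _ _ => Commute.all _ _)

theorem comp_pt {C D : Type u} [CommRing C] [CommRing D] {str : Spec (CommRingCat.of C) ⟶ S}
    {str' : Spec (CommRingCat.of D) ⟶ S} (t : Over.mk str' ⟶ Over.mk str) (φ : C →+* D)
    (hφ : t.left = Spec.map (CommRingCat.ofHom φ)) {L : Type} [AddCommMonoid L] (p : Multiplicative L →* C) :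
    t ≫ pt C str p = pt D str' ((φ : C →* D).comp p) := by
  obtain rfl : str' = Spec.map (CommRingCat.ofHom φ) ≫ str := by
    rw [← hφ]; exact (Over.w t).symm
  obtain rfl : t = chg C str D φ := Over.OverMorphism.ext hφ
  exact chg_pt C str D φ p

theorem lift_pt_left_comp {C D : Type u} [CommRing C] [CommRing D] {str : Spec (CommRingCat.of C) ⟶ S}
    {str' : Spec (CommRingCat.of D) ⟶ S} (t : Over.mk str' ⟶ Over.mk str) (φ : C →+* D)
    (hφ : t.left = Spec.map (CommRingCat.ofHom φ)) {L : Type} [AddCommMonoid L] (p : Multiplicative L →* D) :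
    (lift (pt D str' p) t).left = Spec.map (CommRingCat.ofHom (ev φ p)) ≫ (gaff C str L).hom := by
  rw [show lift (pt D str' p) t = lift (pt D str' p) (𝟙 _) ≫ (Magnet.AMonS S L ◁ t) from by simp, Over.comp_left,
    lift_pt_left', Category.assoc, gaff_whiskerLeft t φ hφ, ← Category.assoc, ← Spec.map_comp]
  congr 2
  apply CommRingCat.hom_ext
  refine MonoidAlgebra.ringHom_ext (fun r => ?_) (fun n => ?_) <;> simp

variable {M : Type} [AddCommGroup M] {X U : Over S}
  (aU : Magnet.MonAct (Magnet.AMonS S M) U) (aX : Magnet.MonAct (Magnet.AMonS S M) X)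
  (ch : Chart U) {C : Type u} [CommRing C] {str : Spec (CommRingCat.of C) ⟶ S}

theorem exists_ring {L : Type} [AddCommMonoid L] (hstr : ∀ p, str p ∈ ch.U)
    (m : Magnet.AMonS S L ⊗ Over.mk str ⟶ U) :
    ∃ h : ch.B →+* GA C L, (gaff C str L).hom ≫ m.left = Spec.map (CommRingCat.ofHom h) ≫ ch.emb := by
  have hr : Set.range ((gaff C str L).hom ≫ m.left) ⊆ Set.range ch.emb := by
    rintro _ ⟨p, rfl⟩
    refine ch.range_emb.ge ?_
    change U.hom (((gaff C str L).hom ≫ m.left) p) ∈ ch.U
    rw [Scheme.Hom.comp_apply, ← Scheme.Hom.comp_apply, Over.w m, ← Over.w (snd (Magnet.AMonS S L) (Over.mk str)),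
      Scheme.Hom.comp_apply]
    exact hstr _
  exact ⟨(Spec.preimage (IsOpenImmersion.lift ch.emb _ hr)).hom, by
    rw [CommRingCat.ofHom_hom, Spec.map_preimage, IsOpenImmersion.lift_fac]⟩

theorem ring_ext {D : Type u} [CommRing D] {g g' : ch.B →+* D}
    (h : Spec.map (CommRingCat.ofHom g) ≫ ch.emb = Spec.map (CommRingCat.ofHom g') ≫ ch.emb) : g = g' :=
  congrArg CommRingCat.Hom.hom (Spec.map_injective ((cancel_mono ch.emb).mp h))

/-- Two maps to an affine open agreeing on all truncations agree. -/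
theorem eq_of_truncations {L : AddSubmonoid M} (d : ↥L →+ ℕ) {V : S.Opens} (hV : IsAffineOpen V)
    (a b : Spec (CommRingCat.of (GA C L)) ⟶ S) (ha : ∀ p, a p ∈ V) (hb : ∀ p, b p ∈ V)
    (h : ∀ n, Spec.map (CommRingCat.ofHom (mk C d n)) ≫ a = Spec.map (CommRingCat.ofHom (mk C d n)) ≫ b) : a = b := by
  haveI : IsAffine V.toScheme := hV
  have hr : ∀ c : Spec (CommRingCat.of (GA C L)) ⟶ S, (∀ p, c p ∈ V) → Set.range c ⊆ Set.range V.ι := by
    rintro c hc _ ⟨p, rfl⟩
    rw [Scheme.Opens.range_ι]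
    exact hc p
  let a' := IsOpenImmersion.lift V.ι a (hr a ha) ≫ V.toScheme.isoSpec.hom
  let b' := IsOpenImmersion.lift V.ι b (hr b hb) ≫ V.toScheme.isoSpec.hom
  have e : a' = b' := by
    rw [← Spec.map_preimage a', ← Spec.map_preimage b']
    congr 1
    refine CommRingCat.hom_ext (RingHom.ext fun r => eq_of_forall_mk C d fun n => ?_)
    have hn : Spec.preimage a' ≫ CommRingCat.ofHom (mk C d n) = Spec.preimage b' ≫ CommRingCat.ofHom (mk C d n) := by
      refine Spec.map_injective ?_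
      rw [Spec.map_comp, Spec.map_comp, Spec.map_preimage, Spec.map_preimage, ← cancel_mono V.toScheme.isoSpec.inv,
        ← cancel_mono V.ι]
      simp only [a', b', Category.assoc, Iso.hom_inv_id_assoc, IsOpenImmersion.lift_fac, h n]
    exact congrArg (fun z => z.hom r) hn
  have := congrArg (fun z => z ≫ V.toScheme.isoSpec.inv ≫ V.ι) e
  simpa [a', b'] using this

/-- Evaluation of a morphism given in the chart. -/
theorem eval_left {L : Type} [AddCommMonoid L] {m : Magnet.AMonS S L ⊗ Over.mk str ⟶ U} {h : ch.B →+* GA C L}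
    (hm : (gaff C str L).hom ≫ m.left = Spec.map (CommRingCat.ofHom h) ≫ ch.emb)
    {D : Type u} [CommRing D] {str' : Spec (CommRingCat.of D) ⟶ S} (t : Over.mk str' ⟶ Over.mk str) (φ : C →+* D)
    (hφ : t.left = Spec.map (CommRingCat.ofHom φ)) (p : Multiplicative L →* D) :
    (lift (pt D str' p) t ≫ m).left = Spec.map (CommRingCat.ofHom ((ev φ p).comp h)) ≫ ch.emb := by
  rw [Over.comp_left, lift_pt_left_comp t φ hφ, Category.assoc, hm, ← Category.assoc, ← Spec.map_comp]
  rfl

theorem ker_mapRingHom_pow {A A₀ : Type u} [CommRing A] [CommRing A₀] (q : A →+* A₀) (k : ℕ)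
    (hk : RingHom.ker q ^ k = ⊥) (G : Type) [CommMonoid G] :
    RingHom.ker (MonoidAlgebra.mapRingHom G q) ^ k = ⊥ := by
  classical
  have h : RingHom.ker (MonoidAlgebra.mapRingHom G q) ≤
      (RingHom.ker q).map (MonoidAlgebra.singleOneRingHom : A →+* MonoidAlgebra A G) := by
    intro a ha
    rw [← MonoidAlgebra.sum_coeff_single a]
    refine Ideal.sum_mem _ fun m _ => ?_
    have hm : a.coeff m ∈ RingHom.ker q := by
      rw [RingHom.mem_ker]
      simpa using congrArg (fun z : MonoidAlgebra A₀ G => z.coeff m) (RingHom.mem_ker.1 ha)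
    have : MonoidAlgebra.single m (a.coeff m) =
        MonoidAlgebra.single m 1 * (MonoidAlgebra.singleOneRingHom (a.coeff m) : MonoidAlgebra A G) := by
      simp [MonoidAlgebra.single_mul_single]
    rw [this]
    exact Ideal.mul_mem_left _ _ (Ideal.mem_map_of_mem _ hm)
  refine le_bot_iff.1 ((Ideal.pow_right_mono h k).trans ?_)
  rw [← Ideal.map_pow, hk, Ideal.map_bot]

theorem mapRingHom_surjective {A A₀ : Type u} [CommRing A] [CommRing A₀] (q : A →+* A₀) (hq : Function.Surjective q)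
    (G : Type) [CommMonoid G] : Function.Surjective (MonoidAlgebra.mapRingHom G q) := by
  intro b
  induction b using MonoidAlgebra.induction_linear with
  | zero => exact ⟨0, map_zero _⟩
  | add x y hx hy =>
    obtain ⟨x, rfl⟩ := hx
    obtain ⟨y, rfl⟩ := hy
    exact ⟨x + y, map_add _ _ _⟩
  | single g r =>
    obtain ⟨r, rfl⟩ := hq r
    exact ⟨MonoidAlgebra.single g r, MonoidAlgebra.mapRingHom_single _ _ _⟩

variable (f : U ⟶ X) {N Q : AddSubmonoid M} (d : ↥N →+ ℕ) (hQ : Magnet.IsFace N Q)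
  (hd : ∀ n : N, d n = 0 ↔ (n : M) ∈ Q)

include hd in
theorem injective_of_chart [FormallyUnramified f.left] (hstr : ∀ p, str p ∈ ch.U)
    (l₁ l₂ : Magnet.AMonS S N ⊗ Over.mk str ⟶ U) (e₁ : l₁ ≫ f = l₂ ≫ f)
    (e₂ : (Magnet.AMonS.faceMap S hQ ▷ Over.mk str) ≫ l₁ = (Magnet.AMonS.faceMap S hQ ▷ Over.mk str) ≫ l₂) :
    l₁ = l₂ := by
  obtain ⟨h₁, hh₁⟩ := exists_ring ch hstr l₁
  obtain ⟨h₂, hh₂⟩ := exists_ring ch hstr l₂
  have e₂' : (faceGA C hQ).comp h₁ = (faceGA C hQ).comp h₂ := by
    refine ring_ext ch ?_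
    rw [CommRingCat.ofHom_comp, Spec.map_comp, Category.assoc, ← hh₁, CommRingCat.ofHom_comp, Spec.map_comp,
      Category.assoc, ← hh₂, ← gaff_faceMap_assoc, ← gaff_faceMap_assoc, ← Over.comp_left, ← Over.comp_left, e₂]
  have hh : h₁ = h₂ := RingHom.ext fun b => eq_of_forall_mk C d fun n => by
    have hn : (mk C d n).comp h₁ = (mk C d n).comp h₂ := by
      refine ring_ext ch (hom_ext_of_nilpotent (trFace C d hQ hd n) (trFace_surjective C d hQ hd n) n
        (ker_trFace C d hQ hd n) f.left ?_ ?_)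
      · simp only [← Category.assoc, ← Spec.map_comp, ← CommRingCat.ofHom_comp, ← RingHom.comp_assoc]
        rw [show (trFace C d hQ hd n).comp (mk C d n) = faceGA C hQ from rfl, e₂']
      · simp only [CommRingCat.ofHom_comp, Spec.map_comp, Category.assoc, ← reassoc_of% hh₁, ← reassoc_of% hh₂,
          ← Over.comp_left, e₁]
    exact RingHom.congr_fun hn b
  subst hh
  ext1
  exact (cancel_epi (gaff C str N).hom).1 (hh₁.trans hh₂.symm)

variable {f} (C) (str)

/-- The structure map of a truncation. -/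
abbrev cT (n : ℕ) : C →+* Tr C d n := (mk C d n).comp MonoidAlgebra.singleOneRingHom

/-- The structure map of `C[Q]`. -/
abbrev c0 (Q : AddSubmonoid M) : C →+* GA C Q := MonoidAlgebra.singleOneRingHom

/-- The spectrum of a truncation. -/
abbrev ZT (n : ℕ) : Over S := Over.mk (Spec.map (CommRingCat.ofHom (cT C d n)) ≫ str)

/-- The spectrum of `C[Q]`. -/
abbrev Z0' (Q : AddSubmonoid M) : Over S := Over.mk (Spec.map (CommRingCat.ofHom (c0 C Q)) ≫ str)

/-- The universal point of a truncation. -/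
abbrev pT (n : ℕ) : Multiplicative N →* Tr C d n :=
  ((mk C d n : GA C N →* Tr C d n)).comp (MonoidAlgebra.of C (Multiplicative N))

/-- The inclusion of a truncation in `A(N) × T`. -/
abbrev jT (n : ℕ) : ZT C str d n ⟶ Magnet.AMonS S N ⊗ Over.mk str :=
  lift (pt (Tr C d n) _ (pT C d n)) (chg C str (Tr C d n) (cT C d n))

/-- The universal point of the face. -/
abbrev j0 (Q : AddSubmonoid M) : Z0' C str Q ⟶ Magnet.AMonS S Q ⊗ Over.mk str :=
  lift (pt (GA C Q) _ (MonoidAlgebra.of C (Multiplicative Q))) (chg C str (GA C Q) (c0 C Q))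

theorem trFace_comp_cT (n : ℕ) : (trFace C d hQ hd n).comp (cT C d n) = c0 C Q := RingHom.ext fun r => by
  change faceGA C hQ (MonoidAlgebra.single 1 r) = _
  exact Magnet.faceAlgHom_single_of_mem C hQ (0 : N) Q.zero_mem r

/-- The face inside a truncation. -/
abbrev iT (n : ℕ) : Z0' C str Q ⟶ ZT C str d n :=
  Over.homMk (Spec.map (CommRingCat.ofHom (trFace C d hQ hd n))) (by
    change Spec.map _ ≫ Spec.map _ ≫ str = Spec.map _ ≫ str
    rw [← Category.assoc, ← Spec.map_comp, ← CommRingCat.ofHom_comp, trFace_comp_cT])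

theorem iT_jT (n : ℕ) :
    iT C str d hQ hd n ≫ jT C str d n = j0 C str Q ≫ (Magnet.AMonS.faceMap S hQ ▷ Over.mk str) := by
  rw [comp_lift, lift_whiskerRight, comp_pt _ (trFace C d hQ hd n) rfl,
    pt_faceMap hQ (GA C Q) _ (MonoidAlgebra.of C (Multiplicative Q)) _ (fun ν h => ?_) (fun ν h => ?_)]
  · congr 1
    exact Over.OverMorphism.ext (by
      change Spec.map _ ≫ Spec.map _ = Spec.map _
      rw [← Spec.map_comp, ← CommRingCat.ofHom_comp, trFace_comp_cT])
  · change trFace C d hQ hd n (mk C d n _) = _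
    rw [trFace_mk]
    exact Magnet.faceAlgHom_single_of_mem C hQ ν h 1
  · change trFace C d hQ hd n (mk C d n _) = _
    rw [trFace_mk]
    exact Magnet.faceAlgHom_single_of_not_mem C hQ ν h 1

theorem ev_pT (n : ℕ) : ev (cT C d n) (pT C d n) = mk C d n :=
  MonoidAlgebra.ringHom_ext (fun r => by simp [cT, pT, ← map_mul, MonoidAlgebra.single_mul_single]) (fun k => by simp [cT, pT, ← map_mul, MonoidAlgebra.single_mul_single])

theorem jT_left (n : ℕ) : (jT C str d n).left = Spec.map (CommRingCat.ofHom (mk C d n)) ≫ (gaff C str N).hom := by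
  rw [lift_pt_left_comp (chg C str (Tr C d n) (cT C d n)) (cT C d n) rfl, ev_pT]

theorem ev_j0 : ev (c0 C Q) (MonoidAlgebra.of C (Multiplicative Q)) = RingHom.id (GA C Q) :=
  MonoidAlgebra.ringHom_ext (fun r => by simp [c0]) (fun k => by simp [c0])

variable {C} {str}

theorem exists_trunc_lift [Smooth f.left] (hstr : ∀ p, str p ∈ ch.U)
    (φ : Magnet.AMonS S N ⊗ Over.mk str ⟶ X) (ψ : Magnet.AMonS S Q ⊗ Over.mk str ⟶ U)
    (hc : ψ ≫ f = (Magnet.AMonS.faceMap S hQ ▷ Over.mk str) ≫ φ)
    {β : ch.B →+* GA C Q} (hβ : (gaff C str Q).hom ≫ ψ.left = Spec.map (CommRingCat.ofHom β) ≫ ch.emb) (n : ℕ) :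
    ∃ g : ch.B →+* Tr C d n, (trFace C d hQ hd n).comp g = β ∧
      Spec.map (CommRingCat.ofHom g) ≫ ch.emb ≫ f.left = (jT C str d n ≫ φ).left := by
  have hψ₀ : (j0 C str Q ≫ ψ).left = Spec.map (CommRingCat.ofHom β) ≫ ch.emb := by
    rw [eval_left ch hβ (chg C str (GA C Q) (c0 C Q)) (c0 C Q) rfl, ev_j0, RingHom.id_comp]
  have w : (iT C str d hQ hd n ≫ jT C str d n ≫ φ).left = ((j0 C str Q ≫ ψ) ≫ f).left := by
    rw [← Category.assoc, iT_jT, Category.assoc, Category.assoc, hc]
  obtain ⟨gam, hgam₁, hgam₂⟩ := exists_lift_of_nilpotent (trFace C d hQ hd n) (trFace_surjective C d hQ hd n) n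
    (ker_trFace C d hQ hd n) f.left (j0 C str Q ≫ ψ).left (jT C str d n ≫ φ).left w
  let gam' : ZT C str d n ⟶ U := Over.homMk gam (by
    rw [← Over.w f, ← Category.assoc, hgam₂, Over.w (jT C str d n ≫ φ)])
  obtain ⟨y, hy⟩ := ch.exists_lift gam' (fun p => hstr _)
  have hgam : Spec.map (CommRingCat.ofHom (ch.ringOf y)) ≫ ch.emb = gam := by
    rw [← ch.left_eq]
    exact congrArg CommaMorphism.left hy
  refine ⟨ch.ringOf y, ?_, by rw [reassoc_of% hgam, hgam₂]⟩
  refine ring_ext ch ?_
  rw [CommRingCat.ofHom_comp, Spec.map_comp, Category.assoc, hgam, ← hψ₀]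
  exact hgam₁

theorem trunc_lift_compat [FormallyUnramified f.left] (φ : Magnet.AMonS S N ⊗ Over.mk str ⟶ X) {β : ch.B →+* GA C Q}
    (g : ∀ n, ch.B →+* Tr C d n) (hg₁ : ∀ n, (trFace C d hQ hd n).comp (g n) = β)
    (hg₂ : ∀ n, Spec.map (CommRingCat.ofHom (g n)) ≫ ch.emb ≫ f.left = (jT C str d n ≫ φ).left)
    (m n : ℕ) (h : m ≤ n) : (tr C d h).comp (g n) = g m := by
  refine ring_ext ch (hom_ext_of_nilpotent (trFace C d hQ hd m) (trFace_surjective C d hQ hd m) m
    (ker_trFace C d hQ hd m) f.left ?_ ?_)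
  · simp only [← Category.assoc, ← Spec.map_comp, ← CommRingCat.ofHom_comp, ← RingHom.comp_assoc]
    rw [hg₁ m, show (trFace C d hQ hd m).comp (tr C d h) = trFace C d hQ hd n from
      Ideal.Quotient.ringHom_ext (RingHom.ext fun a => rfl), hg₁ n]
  · rw [Category.assoc, Category.assoc, hg₂, CommRingCat.ofHom_comp, Spec.map_comp, Category.assoc, hg₂,
      Over.comp_left, Over.comp_left, jT_left, jT_left]
    simp only [← Category.assoc, ← Spec.map_comp, ← CommRingCat.ofHom_comp]
    rfl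

end

end Groth.Agent.MagnetEt
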