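import Mathlib
import Groth.Agent.MagnetEt.Chart

/-! Existence of lifts in the face square along an étale map, on an affine test scheme inside a chart. -/

set_option autoImplicit false
set_option backward.isDefEq.respectTransparency false
set_option backward.isDefEq.respectTransparency.types false
set_option linter.style.haveILetI false
set_option maxHeartbeats 4000000
universe u

open CategoryTheory CategoryTheory.Limits MonoidalCategory CartesianMonoidalCategory MonObj AlgebraicGeometry Opposite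

namespace Groth.Agent.MagnetEt

open Groth.Agent.MagnetHom

noncomputable section

attribute [local instance 50] algZ
attribute [local instance 10000] Algebra.toModule
attribute [-instance] AlgebraicGeometry.instGrpObjSpecAsOverSpec AlgebraicGeometry.instCommGrpObjSpecAsOverSpec

variable {S : Scheme.{u}} {M : Type} [AddCommGroup M] {X U : Over S}
  (aU : Magnet.MonAct (Magnet.AMonS S M) U) (aX : Magnet.MonAct (Magnet.AMonS S M) X)

/-- The orbit of the image of a point of `A(L) × T` under an equivariant map. -/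
theorem orbit_eq {L : AddSubmonoid M} {T : Over S} (φ : (Magnet.attr aX L).obj (op T))
    {R : Type u} [CommRing R] {sR : Spec (CommRingCat.of R) ⟶ S} (b : Multiplicative L →* R) (t : Over.mk sR ⟶ T)
    (δ : Over.mk (Spec.map (CommRingCat.ofHom (MonoidAlgebra.singleOneRingHom : R →+* GA R M)) ≫ sR) ⟶ Over.mk sR)
    (dh : R →+* GA R M) (hδ : δ.left = Spec.map (CommRingCat.ofHom dh))
    (hδt : δ ≫ t = Chart.prC sR M ≫ t)
    (hb : ∀ ν, dh (b ν) = MonoidAlgebra.single (AddMonoidHom.toMultiplicative L.subtype ν) (b ν)) :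
    lift (Chart.ptU sR M) (Chart.prC sR M ≫ lift (pt R sR b) t ≫ φ.1) ≫ aX.act = δ ≫ lift (pt R sR b) t ≫ φ.1 := by
  have h := (Magnet.MonAct.mem_eqvHom_iff _).mp φ.2 _ (Chart.ptU sR M) (Chart.prC sR M ≫ pt R sR b) (Chart.prC sR M ≫ t)
  change lift (lift _ _ ≫ ((Magnet.MonAct.regular _).restrict (Magnet.AMonS.map S L.subtype)).act) _ ≫ φ.1 = _ at h
  rw [Magnet.MonAct.lift_restrict_act, Magnet.MonAct.lift_regular_act] at h
  rw [show Chart.prC sR M ≫ lift (pt R sR b) t ≫ φ.1 =
    lift (Chart.prC sR M ≫ pt R sR b) (Chart.prC sR M ≫ t) ≫ φ.1 from comp_lift_assoc _ _ _ _]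
  refine h.symm.trans ?_
  rw [comp_lift_assoc, hδt]
  congr 2
  rw [pt_map, comp_pt δ dh hδ, comp_pt (Chart.prC sR M) MonoidAlgebra.singleOneRingHom rfl, ← pt_mul]
  congr 1
  refine MonoidHom.ext fun ν => ?_
  change MonoidAlgebra.single _ 1 * MonoidAlgebra.single 1 (b ν) = dh (b ν)
  rw [hb, MonoidAlgebra.single_mul_single, _root_.mul_one, _root_.one_mul]

variable (ch : Chart U) {C : Type u} [CommRing C] {str : Spec (CommRingCat.of C) ⟶ S}
  {f : U ⟶ X} {N Q : AddSubmonoid M} (d : ↥N →+ ℕ) (hQ : Magnet.IsFace N Q)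
  (hd : ∀ n : N, d n = 0 ↔ (n : M) ∈ Q)

theorem dltTr_cT (n : ℕ) :
    (dltTr (M := M) C d n).comp (cT C d n) = (MonoidAlgebra.singleOneRingHom : Tr C d n →+* GA (Tr C d n) M).comp (cT C d n) :=
  RingHom.ext fun r => by
    change dltTr C d n (mk C d n (MonoidAlgebra.single 1 r)) = _
    rw [dltTr_mk, dlt_single, MonoidAlgebra.mapRingHom_single, map_one]
    rfl

theorem dlt_c0 : (dlt (M := M) (N := Q) C).comp (c0 C Q) = (MonoidAlgebra.singleOneRingHom : GA C Q →+* GA (GA C Q) M).comp (c0 C Q) :=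
  RingHom.ext fun r => by
    change dlt C (MonoidAlgebra.single 1 r) = _
    rw [dlt_single, map_one]
    rfl

variable (C)

theorem trFace_dltTr (n : ℕ) :
    (MonoidAlgebra.mapRingHom (Multiplicative M) (trFace C d hQ hd n)).comp (dltTr C d n) =
      (dlt C).comp (trFace C d hQ hd n) := by
  classical
  refine Ideal.Quotient.ringHom_ext (MonoidAlgebra.ringHom_ext (fun r => ?_) (fun k => ?_))
  all_goals
    simp only [RingHom.comp_apply, dltTr_mk, trFace_mk, dlt_single, MonoidAlgebra.mapRingHom_single, faceGA_single]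
    split_ifs
    · rw [dlt_single]; rfl
    · rw [map_zero, MonoidAlgebra.single_zero]

variable {C}

omit [CommRing C] in
theorem coact_ring {R : Type u} [CommRing R] {sR : Spec (CommRingCat.of R) ⟶ S} (y : Over.mk sR ⟶ ch.W)
    (g : ch.B →+* R) (hy : y.left = Spec.map (CommRingCat.ofHom g)) :
    (lift (Chart.ptU sR M) ((Chart.prC sR M ≫ y) ≫ ch.inc) ≫ aU.act).left =
      Spec.map (CommRingCat.ofHom ((MonoidAlgebra.mapRingHom (Multiplicative M) g).comp (ch.coact aU))) ≫ ch.emb := by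
  refine (ch.lift_pt_act aU (Chart.prC sR M ≫ y) (MonoidAlgebra.of R (Multiplicative M))).trans ?_
  congr 3
  have hr : ch.ringOf (Chart.prC sR M ≫ y) = (MonoidAlgebra.singleOneRingHom : R →+* GA R M).comp g := by
    apply ring_ext ch
    rw [← ch.left_eq, CommRingCat.ofHom_comp, Spec.map_comp, ← hy]
    rfl
  rw [Chart.omega, hr, ← RingHom.comp_assoc]
  congr 1
  refine MonoidAlgebra.ringHom_ext (fun r => ?_) (fun k => ?_) <;> simp

omit [CommRing C] in
theorem coact_compat_abs [FormallyUnramified f.left] (hf : Magnet.MonAct.IsEquivariant aU aX f)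
    {R R₀ : Type u} [CommRing R] [CommRing R₀] {sR : Spec (CommRingCat.of R) ⟶ S} {sR₀ : Spec (CommRingCat.of R₀) ⟶ S}
    (q : R →+* R₀) (hq : Function.Surjective q) (k : ℕ) (hk : RingHom.ker q ^ (k + 1) = ⊥)
    (i : Over.mk sR₀ ⟶ Over.mk sR) (hi : i.left = Spec.map (CommRingCat.ofHom q))
    (dh : R →+* GA R M) (dh₀ : R₀ →+* GA R₀ M) (hd' : (MonoidAlgebra.mapRingHom (Multiplicative M) q).comp dh = dh₀.comp q)
    (δ : Over.mk (Spec.map (CommRingCat.ofHom (MonoidAlgebra.singleOneRingHom : R →+* GA R M)) ≫ sR) ⟶ Over.mk sR)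
    (hδ : δ.left = Spec.map (CommRingCat.ofHom dh))
    (δ₀ : Over.mk (Spec.map (CommRingCat.ofHom (MonoidAlgebra.singleOneRingHom : R₀ →+* GA R₀ M)) ≫ sR₀) ⟶ Over.mk sR₀)
    (hδ₀ : δ₀.left = Spec.map (CommRingCat.ofHom dh₀))
    (y : Over.mk sR ⟶ ch.W) (g : ch.B →+* R) (hy : y.left = Spec.map (CommRingCat.ofHom g))
    (hX : lift (Chart.ptU sR M) (Chart.prC sR M ≫ (y ≫ ch.inc) ≫ f) ≫ aX.act = δ ≫ (y ≫ ch.inc) ≫ f)
    (hU : lift (Chart.ptU sR₀ M) (Chart.prC sR₀ M ≫ i ≫ y ≫ ch.inc) ≫ aU.act = δ₀ ≫ i ≫ y ≫ ch.inc) :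
    (MonoidAlgebra.mapRingHom (Multiplicative M) g).comp (ch.coact aU) = dh.comp g := by
  let P₁ := lift (Chart.ptU sR M) ((Chart.prC sR M ≫ y) ≫ ch.inc) ≫ aU.act
  let P₂ := δ ≫ y ≫ ch.inc
  have hP₂ : P₂.left = Spec.map (CommRingCat.ofHom (dh.comp g)) ≫ ch.emb := by
    rw [CommRingCat.ofHom_comp, Spec.map_comp, Category.assoc, ← hδ, ← hy]
    rfl
  let qM := MonoidAlgebra.mapRingHom (Multiplicative M) q
  have hsq : qM.comp (MonoidAlgebra.singleOneRingHom : R →+* GA R M) =
      (MonoidAlgebra.singleOneRingHom : R₀ →+* GA R₀ M).comp q := RingHom.ext fun r => by simp [qM]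
  have hsR : Spec.map (CommRingCat.ofHom q) ≫ sR = sR₀ := by rw [← hi]; exact Over.w i
  let iD : Over.mk (Spec.map (CommRingCat.ofHom (MonoidAlgebra.singleOneRingHom : R₀ →+* GA R₀ M)) ≫ sR₀) ⟶
      Over.mk (Spec.map (CommRingCat.ofHom (MonoidAlgebra.singleOneRingHom : R →+* GA R M)) ≫ sR) :=
    Over.homMk (Spec.map (CommRingCat.ofHom qM)) (by
      change Spec.map _ ≫ Spec.map _ ≫ sR = Spec.map _ ≫ sR₀
      rw [← hsR, ← Category.assoc, ← Category.assoc, ← Spec.map_comp, ← Spec.map_comp, ← CommRingCat.ofHom_comp,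
        ← CommRingCat.ofHom_comp, hsq])
  have hid : iD ≫ δ = δ₀ ≫ i := Over.OverMorphism.ext (by
    rw [Over.comp_left, Over.comp_left, hδ, hδ₀, hi]
    change Spec.map _ ≫ Spec.map _ = Spec.map _ ≫ Spec.map _
    simp only [← Spec.map_comp, ← CommRingCat.ofHom_comp, qM, hd'])
  have hip : iD ≫ Chart.prC sR M = Chart.prC sR₀ M ≫ i := Over.OverMorphism.ext (by
    rw [Over.comp_left, Over.comp_left, hi]
    change Spec.map _ ≫ Spec.map _ = Spec.map _ ≫ Spec.map _
    simp only [← Spec.map_comp, ← CommRingCat.ofHom_comp, hsq])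
  have hiu : iD ≫ Chart.ptU sR M = Chart.ptU sR₀ M := by
    rw [comp_pt iD qM rfl]
    congr 1
    exact MonoidHom.ext fun k => by simp [qM]
  rw [Magnet.MonAct.isEquivariant_iff] at hf
  have hf₁ : P₁ ≫ f = P₂ ≫ f := by
    simp only [P₁, P₂, Category.assoc, hf]
    simpa only [Category.assoc] using hX
  have hf₀ : iD ≫ P₁ = iD ≫ P₂ := by
    simp only [P₁, P₂, Category.assoc, comp_lift_assoc, hiu, reassoc_of% hid, reassoc_of% hip]
    exact hU
  refine congrArg CommRingCat.Hom.hom (Spec.map_injective ((cancel_mono ch.emb).mp (?_ :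
    Spec.map (CommRingCat.ofHom ((MonoidAlgebra.mapRingHom (Multiplicative M) g).comp (ch.coact aU))) ≫ ch.emb =
      Spec.map (CommRingCat.ofHom (dh.comp g)) ≫ ch.emb)))
  rw [← coact_ring aU ch y g hy, ← hP₂]
  exact hom_ext_of_nilpotent qM (mapRingHom_surjective _ hq _) k (ker_mapRingHom_pow _ _ hk _) f.left
    (congrArg CommaMorphism.left hf₀) (congrArg CommaMorphism.left hf₁)

theorem coact_compat [FormallyUnramified f.left] (hf : Magnet.MonAct.IsEquivariant aU aX f)
    (φ : (Magnet.attr aX N).obj (op (Over.mk str))) (ψ : (Magnet.attr aU Q).obj (op (Over.mk str)))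
    {β : ch.B →+* GA C Q} (hβ : (gaff C str Q).hom ≫ ψ.1.left = Spec.map (CommRingCat.ofHom β) ≫ ch.emb)
    (n : ℕ) (g : ch.B →+* Tr C d n) (hg₁ : (trFace C d hQ hd n).comp g = β)
    (hg₂ : Spec.map (CommRingCat.ofHom g) ≫ ch.emb ≫ f.left = (jT C str d n ≫ φ.1).left) :
    (MonoidAlgebra.mapRingHom (Multiplicative M) g).comp (ch.coact aU) = (dltTr C d n).comp g := by
  let y : ZT C str d n ⟶ ch.W := Over.homMk (Spec.map (CommRingCat.ofHom g)) (by
    change Spec.map _ ≫ ch.emb ≫ U.hom = Spec.map (CommRingCat.ofHom (cT C d n)) ≫ str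
    rw [← Over.w f, reassoc_of% hg₂, Over.w (jT C str d n ≫ φ.1)]
    rfl)
  let δ : Over.mk (Spec.map (CommRingCat.ofHom (MonoidAlgebra.singleOneRingHom : Tr C d n →+* GA (Tr C d n) M)) ≫
      (Spec.map (CommRingCat.ofHom (cT C d n)) ≫ str)) ⟶ ZT C str d n :=
    Over.homMk (Spec.map (CommRingCat.ofHom (dltTr C d n))) (by
      change Spec.map _ ≫ Spec.map _ ≫ str = Spec.map _ ≫ Spec.map _ ≫ str
      simp only [← Category.assoc, ← Spec.map_comp, ← CommRingCat.ofHom_comp, dltTr_cT])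
  let δ₀ : Over.mk (Spec.map (CommRingCat.ofHom (MonoidAlgebra.singleOneRingHom : GA C Q →+* GA (GA C Q) M)) ≫
      (Spec.map (CommRingCat.ofHom (c0 C Q)) ≫ str)) ⟶ Z0' C str Q :=
    Over.homMk (Spec.map (CommRingCat.ofHom (dlt C))) (by
      change Spec.map _ ≫ Spec.map _ ≫ str = Spec.map _ ≫ Spec.map _ ≫ str
      simp only [← Category.assoc, ← Spec.map_comp, ← CommRingCat.ofHom_comp, dlt_c0])
  refine coact_compat_abs aU aX ch hf (trFace C d hQ hd n) (trFace_surjective C d hQ hd n) n (ker_trFace C d hQ hd n)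
    (iT C str d hQ hd n) rfl (dltTr C d n) (dlt C) (trFace_dltTr C d hQ hd n) δ rfl δ₀ rfl y g rfl ?_ ?_
  · have hyf : (y ≫ ch.inc) ≫ f = jT C str d n ≫ φ.1 := Over.OverMorphism.ext (by
      rw [Over.comp_left, Over.comp_left, Category.assoc]
      exact hg₂)
    rw [hyf]
    exact orbit_eq aX φ (pT C d n) (chg C str (Tr C d n) (cT C d n)) δ (dltTr C d n) rfl
      (Over.OverMorphism.ext (by
        change Spec.map _ ≫ Spec.map _ = Spec.map _ ≫ Spec.map _
        simp only [← Spec.map_comp, ← CommRingCat.ofHom_comp, dltTr_cT]))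
      (fun ν => by
        change dltTr C d n (mk C d n (MonoidAlgebra.single ν 1)) = _
        rw [dltTr_mk, dlt_single, MonoidAlgebra.mapRingHom_single]
        rfl)
  · have hiy : iT C str d hQ hd n ≫ y ≫ ch.inc = j0 C str Q ≫ ψ.1 := Over.OverMorphism.ext (by
      rw [eval_left ch hβ (chg C str (GA C Q) (c0 C Q)) (c0 C Q) rfl, ev_j0, RingHom.id_comp, ← hg₁,
        CommRingCat.ofHom_comp, Spec.map_comp, Category.assoc]
      rfl)
    rw [hiy]
    exact orbit_eq aU ψ (MonoidAlgebra.of C (Multiplicative Q)) (chg C str (GA C Q) (c0 C Q)) δ₀ (dlt C) rfl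
      (Over.OverMorphism.ext (by
        change Spec.map _ ≫ Spec.map _ = Spec.map _ ≫ Spec.map _
        simp only [← Spec.map_comp, ← CommRingCat.ofHom_comp, dlt_c0]))
      (fun ν => dlt_single C ν 1)

include hd in
theorem exists_of_chart [Smooth f.left] [FormallyUnramified f.left] [IsAffineHom U.hom]
    (hf : Magnet.MonAct.IsEquivariant aU aX f) (hstr : ∀ p, str p ∈ ch.U)
    (ψd : M →+ ℤ) (hψd : ∀ ν : N, ψd ν = d ν)
    (φ : (Magnet.attr aX N).obj (op (Over.mk str))) (ψ : (Magnet.attr aU Q).obj (op (Over.mk str)))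
    (hc : ψ.1 ≫ f = (Magnet.AMonS.faceMap S hQ ▷ Over.mk str) ≫ φ.1) :
    ∃ l : (Magnet.attr aU N).obj (op (Over.mk str)),
      l.1 ≫ f = φ.1 ∧ (Magnet.AMonS.faceMap S hQ ▷ Over.mk str) ≫ l.1 = ψ.1 := by
  classical
  obtain ⟨β, hβ⟩ := exists_ring ch hstr ψ.1
  choose g hg₁ hg₂ using exists_trunc_lift ch d hQ hd hstr φ.1 ψ.1 hc hβ
  obtain ⟨h, hh, hdlt⟩ := exists_limit C d (ch.coact aU) g (trunc_lift_compat ch d hQ hd φ.1 g hg₁ hg₂)
    (fun n => coact_compat aU aX ch d hQ hd hf φ ψ hβ n (g n) (hg₁ n) (hg₂ n))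
  -- the lift
  let ε : GA C N →+* C := ev (RingHom.id C) 1
  let iM : GA C N →+* GA C M := MonoidAlgebra.mapDomainRingHom C (AddMonoidHom.toMultiplicative N.subtype)
  have hiM : Function.Injective iM := MonoidAlgebra.mapDomain_injective fun u v e =>
    Multiplicative.toAdd.injective (N.subtype_injective (congrArg Multiplicative.toAdd e))
  have hbase : Spec.map (CommRingCat.ofHom h) ≫ ch.emb ≫ U.hom =
      Spec.map (CommRingCat.ofHom (MonoidAlgebra.singleOneRingHom : C →+* GA C N)) ≫ str := by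
    refine eq_of_truncations d ch.hU _ _ (fun p => ?_) (fun p => ?_) fun n => ?_
    · rw [Scheme.Hom.comp_apply, Scheme.Hom.comp_apply]
      exact ch.mem_U _
    · rw [Scheme.Hom.comp_apply]
      exact hstr _
    · rw [← Category.assoc, ← Spec.map_comp, ← CommRingCat.ofHom_comp, hh, ← Category.assoc (Spec.map _) (Spec.map _) str,
        ← Spec.map_comp, ← CommRingCat.ofHom_comp, ← Over.w f, reassoc_of% hg₂ n, Over.w (jT C str d n ≫ φ.1)]
      rfl
  have hx0 : Spec.map (CommRingCat.ofHom (ε.comp h)) ≫ ch.emb ≫ U.hom = str := by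
    rw [CommRingCat.ofHom_comp, Spec.map_comp, Category.assoc, hbase, ← Category.assoc, ← Spec.map_comp,
      ← CommRingCat.ofHom_comp, show ε.comp MonoidAlgebra.singleOneRingHom = RingHom.id C from RingHom.ext fun r => by simp [ε]]
    exact (congrArg (· ≫ str) (Spec.map_id _)).trans (Category.id_comp str)
  let x : Over.mk str ⟶ ch.W := Over.homMk (Spec.map (CommRingCat.ofHom (ε.comp h))) hx0
  have hrx : ch.ringOf x = ε.comp h := ring_ext ch (by rw [← ch.left_eq]; rfl)
  have hω : ch.omega aU x = iM.comp h := by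
    rw [Chart.omega, hrx]
    have e : (MonoidAlgebra.mapRingHom (Multiplicative M) (ε.comp h)) =
        (MonoidAlgebra.mapRingHom (Multiplicative M) ε).comp (MonoidAlgebra.mapRingHom (Multiplicative M) h) :=
      MonoidAlgebra.ringHom_ext (fun r => by simp) (fun k => by simp)
    have e' : (MonoidAlgebra.mapRingHom (Multiplicative M) ε).comp (dlt C) = iM :=
      MonoidAlgebra.ringHom_ext (fun r => by simp [ε, iM, dlt_single]) (fun k => by simp [ε, iM, dlt_single])
    rw [e, RingHom.comp_assoc, hdlt, ← RingHom.comp_assoc, e']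
  have horb : HasOrbit aU N (x ≫ ch.inc) := by
    rw [ch.hasOrbit_iff aU N x]
    intro b m hm
    rw [hω, RingHom.comp_apply] at hm
    have hm' : m ∈ Finset.image (AddMonoidHom.toMultiplicative N.subtype) (h b).coeff.support :=
      Finsupp.mapDomain_support (Finsupp.mem_support_iff.2 hm)
    obtain ⟨k, -, rfl⟩ := Finset.mem_image.1 hm'
    exact (Multiplicative.toAdd k).2
  obtain ⟨l, hl⟩ := horb.exists_attr
  obtain ⟨h', hh'⟩ := exists_ring ch hstr l.1
  obtain rfl : h' = h := by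
    refine RingHom.ext fun b => hiM (RingHom.congr_fun (ring_ext ch ?_ : iM.comp h' = iM.comp h) b)
    rw [CommRingCat.ofHom_comp, Spec.map_comp, Category.assoc, ← hh', ← hω, ← Chart.omega_spec, ← hl,
      ← whiskerRight_subtype_comp, Over.comp_left, gaff_whiskerRight_assoc]
  refine ⟨l, congrArg Subtype.val (ext_of_small aX d ψd hψd
    ((Magnet.MonAct.eqvHom.postcomp (Magnet.subAct S M N) f hf).app _ l) φ (fun R _ strR t p ⟨n, hp⟩ => ?_)), ?_⟩
  · change lift (pt R strR p) t ≫ l.1 ≫ f = _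
    obtain ⟨φR, hφR⟩ : ∃ φR : C →+* R, t.left = Spec.map (CommRingCat.ofHom φR) :=
      ⟨(Spec.preimage (t.left : Spec (CommRingCat.of R) ⟶ Spec (CommRingCat.of C))).hom, by simp⟩
    have hker : hi C d n ≤ RingHom.ker (ev φR p) := by
      refine Ideal.span_le.2 ?_
      rintro _ ⟨m, hm, rfl⟩
      simp [RingHom.mem_ker, show p m = 0 from hp _ hm]
    let χ : Tr C d n →+* R := Ideal.Quotient.lift (hi C d n) (ev φR p) fun a ha => hker ha
    have hχ : χ.comp (cT C d n) = φR := RingHom.ext fun r => by simp [χ, cT]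
    let v : Over.mk strR ⟶ ZT C str d n := Over.homMk (Spec.map (CommRingCat.ofHom χ)) (by
      change Spec.map _ ≫ Spec.map _ ≫ str = strR
      rw [← Category.assoc, ← Spec.map_comp, ← CommRingCat.ofHom_comp, hχ, ← hφR]
      exact Over.w t)
    have hv : v ≫ jT C str d n = lift (pt R strR p) t := by
      rw [comp_lift, comp_pt v χ rfl]
      congr 1
      · congr 1
        exact MonoidHom.ext fun k => by simp [χ, pT]
      · exact Over.OverMorphism.ext (by
          change Spec.map _ ≫ Spec.map _ = t.left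
          rw [← Spec.map_comp, ← CommRingCat.ofHom_comp, hχ, hφR])
    rw [← Category.assoc (lift (pt R strR p) t) l.1 f]
    refine Over.OverMorphism.ext ?_
    rw [Over.comp_left, eval_left ch hh' t φR hφR, ← hv, Category.assoc v, Over.comp_left (f := v), ← hg₂ n, ← hh n]
    simp only [Category.assoc, ← Spec.map_comp_assoc, ← CommRingCat.ofHom_comp, v, Over.homMk_left]
    rfl
  · ext1
    rw [← cancel_epi (gaff C str Q).hom, hβ, Over.comp_left, gaff_faceMap_assoc, hh', ← Category.assoc, ← Spec.map_comp,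
      ← CommRingCat.ofHom_comp, ← hg₁ 0, ← hh 0]
    rfl

end

end Groth.Agent.MagnetEt
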