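import Mathlib
import Groth.Agent.MagnetEt.Chart2
import Groth.Agent.MagnetHom.Union
import Groth.Agent.MagnetHom.PushAttr
import Groth.Agent.GordanLib.Basic

/-! The face square of attractors along an étale equivariant map from a scheme affine over the base. -/

set_option autoImplicit false
set_option backward.isDefEq.respectTransparency false
set_option backward.isDefEq.respectTransparency.types false
set_option linter.style.haveILetI false
set_option maxHeartbeats 1000000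
universe u

open CategoryTheory CategoryTheory.Limits MonoidalCategory CartesianMonoidalCategory MonObj AlgebraicGeometry Opposite

namespace Groth.Agent.MagnetEt

open Groth.Agent.MagnetHom

noncomputable section

attribute [local instance 50] algZ
attribute [local instance 10000] Algebra.toModule
attribute [-instance] AlgebraicGeometry.instGrpObjSpecAsOverSpec AlgebraicGeometry.instCommGrpObjSpecAsOverSpec

variable {S : Scheme.{u}} {M : Type} [AddCommGroup M] {X U : Over S}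
  (aU : Magnet.MonAct (Magnet.AMonS S M) U) (aX : Magnet.MonAct (Magnet.AMonS S M) X)
  {f : U ⟶ X} (hf : Magnet.MonAct.IsEquivariant aU aX f)

/-- The comparison of `U^N` with pairs. -/
def Good {N Q : AddSubmonoid M} (hQ : Magnet.IsFace N Q) (T : Over S) : Prop :=
  ∀ (φ : (Magnet.attr aX N).obj (op T)) (ψ : (Magnet.attr aU Q).obj (op T)),
    ψ.1 ≫ f = (Magnet.AMonS.faceMap S hQ ▷ T) ≫ φ.1 →
    ∃! l : (Magnet.attr aU N).obj (op T), l.1 ≫ f = φ.1 ∧ (Magnet.AMonS.faceMap S hQ ▷ T) ≫ l.1 = ψ.1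

/-- Test objects: affine schemes mapping into an affine open of the base. -/
def SmallObj (T : Over S) : Prop :=
  ∃ (C : CommRingCat.{u}) (str : Spec C ⟶ S) (V : S.Opens), T = Over.mk str ∧ IsAffineOpen V ∧ ∀ p, str p ∈ V

theorem sieve_mem_of_small {T : Over S} (R : Sieve T) (h : ∀ (T' : Over S) (t : T' ⟶ T), SmallObj T' → R t) :
    R ∈ Scheme.zariskiTopology.over S T := by
  let I := {W : T.left.affineOpens // ∃ V : S.Opens, IsAffineOpen V ∧ (W : T.left.Opens) ≤ T.hom ⁻¹ᵁ V}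
  have hI : ∀ x : T.left, ∃ i : I, x ∈ (i.1 : T.left.Opens) := fun x => by
    obtain ⟨_, ⟨(V : S.Opens), hV, rfl⟩, hxV, -⟩ := S.isBasis_affineOpens.exists_subset_of_mem_open
      (Set.mem_univ (T.hom x)) isOpen_univ
    obtain ⟨_, ⟨(W : T.left.Opens), hW, rfl⟩, hxW, hWV⟩ := T.left.isBasis_affineOpens.exists_subset_of_mem_open
      (show x ∈ T.hom ⁻¹ᵁ V from hxV) (T.hom ⁻¹ᵁ V).isOpen
    exact ⟨⟨⟨W, hW⟩, V, hV, hWV⟩, hxW⟩
  let 𝒰 : T.left.OpenCover :=
    { I₀ := I
      X := fun i => Spec Γ(T.left, i.1)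
      f := fun i => i.1.2.fromSpec
      mem₀ := by
        rw [Scheme.ofArrows_mem_precoverage_iff]
        refine ⟨fun x => ?_, fun i => inferInstance⟩
        obtain ⟨i, hi⟩ := hI x
        exact ⟨i, by rw [← SetLike.mem_coe, ← i.1.2.range_fromSpec] at hi; exact hi⟩ }
  rw [GrothendieckTopology.mem_over_iff]
  refine GrothendieckTopology.superset_covering _ ?_ 𝒰.mem_grothendieckTopology
  rw [Sieve.generate_le_iff]
  rintro _ _ ⟨i⟩
  refine (Sieve.overEquiv_iff R (𝒰.f i)).mpr ?_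
  obtain ⟨W, V, hV, hWV⟩ := i
  exact h _ _ ⟨Γ(T.left, W), W.2.fromSpec ≫ T.hom, V, rfl, hV, fun p => by
    rw [Scheme.Hom.comp_apply]
    exact hWV ((W.2.range_fromSpec).le ⟨p, rfl⟩)⟩

include hf in
theorem good_of_small {N Q : AddSubmonoid M} (hQ : Magnet.IsFace N Q)
    (h : ∀ T : Over S, SmallObj T → Good aU aX (f := f) hQ T) (T : Over S) : Good aU aX (f := f) hQ T := by
  intro φ ψ hc
  have hUN := (isSheaf_iff_isSheaf_of_type _ _).mp (isSheaf_attr aU N)
  have hXN := (isSheaf_iff_isSheaf_of_type _ _).mp (isSheaf_attr aX N)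
  have hUQ := (isSheaf_iff_isSheaf_of_type _ _).mp (isSheaf_attr aU Q)
  have res : ∀ {T' : Over S} (t : T' ⟶ T),
      ((Magnet.attr aU Q).map t.op ψ).1 ≫ f = (Magnet.AMonS.faceMap S hQ ▷ T') ≫ ((Magnet.attr aX N).map t.op φ).1 := by
    intro T' t
    change ((Magnet.AMonS S Q ◁ t) ≫ ψ.1) ≫ f = (Magnet.AMonS.faceMap S hQ ▷ T') ≫ (Magnet.AMonS S N ◁ t) ≫ φ.1
    rw [Category.assoc, hc, whisker_exchange_assoc]
  let Sol : ∀ {T' : Over S}, (T' ⟶ T) → (Magnet.attr aU N).obj (op T') → Prop := fun {T'} t l =>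
    l.1 ≫ f = ((Magnet.attr aX N).map t.op φ).1 ∧
      (Magnet.AMonS.faceMap S hQ ▷ T') ≫ l.1 = ((Magnet.attr aU Q).map t.op ψ).1
  have hSol : ∀ {T' T'' : Over S} (t : T' ⟶ T) (s : T'' ⟶ T') (l : (Magnet.attr aU N).obj (op T')),
      Sol t l → Sol (s ≫ t) ((Magnet.attr aU N).map s.op l) := by
    rintro T' T'' t s l ⟨e₁, e₂⟩
    constructor
    · change ((Magnet.AMonS S N ◁ s) ≫ l.1) ≫ f = (Magnet.AMonS S N ◁ (s ≫ t)) ≫ φ.1
      rw [Category.assoc, e₁, MonoidalCategory.whiskerLeft_comp, Category.assoc]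
      rfl
    · change (Magnet.AMonS.faceMap S hQ ▷ T'') ≫ (Magnet.AMonS S N ◁ s) ≫ l.1 = (Magnet.AMonS S Q ◁ (s ≫ t)) ≫ ψ.1
      rw [← whisker_exchange_assoc, e₂, MonoidalCategory.whiskerLeft_comp, Category.assoc]
      rfl
  -- local uniqueness gives uniqueness everywhere
  have huniq : ∀ {T' : Over S} (t : T' ⟶ T) (l l' : (Magnet.attr aU N).obj (op T')), Sol t l → Sol t l' → l = l' := by
    intro T' t l l' hl hl'
    let R : Sieve T' :=
      { arrows := fun T'' s => (Magnet.attr aU N).map s.op l = (Magnet.attr aU N).map s.op l'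
        downward_closed := fun {Y Z s} hs g => by
          rw [op_comp, (Magnet.attr aU N).map_comp, ConcreteCategory.comp_apply, ConcreteCategory.comp_apply, hs] }
    exact (hUN R (sieve_mem_of_small R fun T'' s hT'' =>
      (h T'' hT'' _ _ (res (s ≫ t))).unique (hSol t s l hl) (hSol t s l' hl'))).isSeparatedFor.ext fun T'' s hs => hs
  let R : Sieve T :=
    { arrows := fun T' t => ∃ l, Sol t l
      downward_closed := fun {Y Z t} ⟨l, hl⟩ g => ⟨_, hSol t g l hl⟩ }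
  have hR : R ∈ Scheme.zariskiTopology.over S T := sieve_mem_of_small R fun T' t hT' =>
    (h T' hT' _ _ (res t)).exists
  choose lam hlam using fun (T' : Over S) (t : T' ⟶ T) (ht : R t) => ht
  have hcomp : Presieve.FamilyOfElements.Compatible
      (fun T' t ht => lam T' t ht : Presieve.FamilyOfElements (Magnet.attr aU N) R.arrows) := by
    intro T₁ T₂ W g₁ g₂ f₁ f₂ h₁ h₂ e
    have h2 := hSol f₂ g₂ _ (hlam _ _ h₂)
    rw [← e] at h2
    exact huniq (g₁ ≫ f₁) _ _ (hSol f₁ g₁ _ (hlam _ _ h₁)) h2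
  obtain ⟨l, hl, -⟩ := hUN R hR _ hcomp
  refine ⟨l, ⟨?_, ?_⟩, fun l' hl' => ?_⟩
  · refine congrArg Subtype.val ((hXN R hR).isSeparatedFor.ext fun T' t ht => Subtype.ext ?_ :
      (Magnet.MonAct.eqvHom.postcomp (Magnet.subAct S M N) f hf).app _ l = φ)
    change (Magnet.AMonS S N ◁ t) ≫ l.1 ≫ f = _
    rw [← Category.assoc]
    exact (congrArg (fun z => z.1 ≫ f) (hl t ht)).trans (hlam T' t ht).1
  · refine congrArg Subtype.val ((hUQ R hR).isSeparatedFor.ext fun T' t ht => Subtype.ext ?_ :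
      (Magnet.attrFace aU hQ).app _ l = ψ)
    change (Magnet.AMonS S Q ◁ t) ≫ (Magnet.AMonS.faceMap S hQ ▷ T) ≫ l.1 = _
    rw [whisker_exchange_assoc]
    exact (congrArg (fun z => (Magnet.AMonS.faceMap S hQ ▷ T') ≫ z.1) (hl t ht)).trans (hlam T' t ht).2
  · refine (hUN R hR).isSeparatedFor.ext fun T' t ht => ?_
    have h2 : Sol t ((Magnet.attr aU N).map t.op l') := by
      have := hSol (𝟙 T) t l' (by
        refine ⟨hl'.1.trans ?_, hl'.2.trans ?_⟩ <;>
          (rw [op_id, CategoryTheory.Functor.map_id]; rfl))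
      rwa [Category.comp_id] at this
    exact (huniq t _ _ h2 (hlam T' t ht)).trans (hl t ht).symm

include hf in
/-- The finitely generated case. -/
theorem good_of_fg [AddGroup.FG M] [IsAffineHom U.hom] [Etale f.left] {N Q : AddSubmonoid M} (hQ : Magnet.IsFace N Q)
    (hN : N.FG) (T : Over S) : Good aU aX (f := f) hQ T := by
  obtain ⟨ψd, hψQ, hψN⟩ := GordanLib.exists_height_hom hN hQ.le hQ.mem_of_add_mem
  let d : ↥N →+ ℕ :=
    { toFun := fun ν => (ψd (ν : M)).toNat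
      map_zero' := by simp
      map_add' := fun a b => by
        simp only [AddSubmonoid.coe_add, map_add]
        exact Int.toNat_add (hψN _ a.2).1 (hψN _ b.2).1 }
  have hd : ∀ ν : N, d ν = 0 ↔ (ν : M) ∈ Q := fun ν => by
    refine ⟨fun h => (hψN _ ν.2).2 (le_antisymm (Int.toNat_eq_zero.mp h) (hψN _ ν.2).1), fun h => ?_⟩
    change (ψd (ν : M)).toNat = 0
    rw [hψQ _ h]
    rfl
  have hψd : ∀ ν : N, ψd ν = d ν := fun ν => (Int.toNat_of_nonneg (hψN _ ν.2).1).symm
  refine good_of_small aU aX hf hQ ?_ T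
  rintro T ⟨C, str, V, rfl, hV, hstr⟩ φ ψ hc
  haveI : FormallyUnramified f.left := inferInstance
  obtain ⟨l, hl⟩ := exists_of_chart aU aX (Chart.mk' V hV) d hQ hd hf hstr ψd hψd φ ψ hc
  exact ⟨l, hl, fun l' hl' => Subtype.ext (injective_of_chart (Chart.mk' V hV) f d hQ hd hstr l'.1 l.1
    (hl'.1.trans hl.1.symm) (hl'.2.trans hl.2.symm))⟩

theorem map_incl_comp {L L' L'' : AddSubmonoid M} (h : L ≤ L') (h' : L' ≤ L'') :
    Magnet.AMonS.map S (AddSubmonoid.inclusion h') ≫ Magnet.AMonS.map S (AddSubmonoid.inclusion h) =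
      Magnet.AMonS.map S (AddSubmonoid.inclusion (h.trans h')) := by
  rw [← Magnet.AMonS.map_comp]
  rfl

/-- The face maps commute with restriction to a smaller monoid. -/
theorem faceMap_map_incl {N Q N' Q' : AddSubmonoid M} (hQ : Magnet.IsFace N Q) (hQ' : Magnet.IsFace N' Q')
    (hN : N' ≤ N) (hle : Q' ≤ Q) (hmem : ∀ m ∈ N', m ∈ Q → m ∈ Q') :
    Magnet.AMonS.faceMap S hQ ≫ Magnet.AMonS.map S (AddSubmonoid.inclusion hN) =
      Magnet.AMonS.map S (AddSubmonoid.inclusion hle) ≫ Magnet.AMonS.faceMap S hQ' := by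
  classical
  refine hom_ext_pts fun C _ str t => ?_
  obtain ⟨p, hp⟩ := exists_eq_pt C str t
  subst hp
  let p₁ : Multiplicative N →* C := ((ev (RingHom.id C) p).comp (faceGA C hQ) : GA C N →* C).comp (MonoidAlgebra.of C _)
  have h₁ : pt C str p ≫ Magnet.AMonS.faceMap S hQ = pt C str p₁ :=
    pt_faceMap hQ C str p p₁ (fun ν h => by simp [p₁, Magnet.faceAlgHom_single_of_mem C hQ ν h]) (fun ν h => by simp [p₁, Magnet.faceAlgHom_single_of_not_mem C hQ ν h])
  rw [← Category.assoc, ← Category.assoc, h₁, pt_map, pt_map]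
  refine (pt_faceMap hQ' C str _ _ (fun ν h => ?_) (fun ν h => ?_)).symm
  · simp [p₁, Magnet.faceAlgHom_single_of_mem C hQ (AddSubmonoid.inclusion hN ν) (hle h)]
    rfl
  · have : (ν : M) ∉ Q := fun h' => h (hmem _ ν.2 h')
    simp [p₁, Magnet.faceAlgHom_single_of_not_mem C hQ (AddSubmonoid.inclusion hN ν) this]

theorem exists_stage_of_eq {X : Over S} [IsSeparated X.hom] [LocallyOfFinitePresentation X.hom]
    (a : Magnet.MonAct (Magnet.AMonS S M) X) {J : Type} [Preorder J] [IsDirected J (· ≤ ·)] [Nonempty J]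
    (Nj : J → AddSubmonoid M) (hN : Monotone Nj) {L : AddSubmonoid M} (hL : L = ⨆ j, Nj j) (T : Over S) [IsAffine T.left]
    (φ : (Magnet.attr a L).obj (op T)) :
    ∃ (j : J) (hle : Nj j ≤ L) (φ' : (Magnet.attr a (Nj j)).obj (op T)),
      (Magnet.AMonS.map S (AddSubmonoid.inclusion hle) ▷ T) ≫ φ'.1 = φ.1 := by
  subst hL
  obtain ⟨j, φ', h⟩ := exists_union Nj hN a T φ
  exact ⟨j, le_iSup Nj j, φ', congrArg Subtype.val h⟩

include hf in
/-- The case of a separated finitely presented target. -/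
theorem good_of_lfp [AddGroup.FG M] [IsAffineHom U.hom] [Etale f.left] [IsSeparated X.hom]
    [LocallyOfFinitePresentation X.hom] {N Q : AddSubmonoid M} (hQ : Magnet.IsFace N Q) (T : Over S) :
    Good aU aX (f := f) hQ T := by
  classical
  refine good_of_small aU aX hf hQ ?_ T
  rintro T ⟨C, str, V, rfl, -, -⟩ φ ψ hc
  haveI : LocallyOfFinitePresentation U.hom := by rw [← Over.w f]; infer_instance
  haveI : IsAffine (Over.mk str).left := inferInstanceAs (IsAffine (Spec C))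
  let Nj : Finset N → AddSubmonoid M := fun s => AddSubmonoid.closure (Subtype.val '' (s : Set N))
  have hNj : Monotone Nj := fun s t h => AddSubmonoid.closure_mono (Set.image_mono (Finset.coe_subset.2 h))
  have hNle : ∀ s, Nj s ≤ N := fun s => AddSubmonoid.closure_le.2 (by rintro _ ⟨x, -, rfl⟩; exact x.2)
  have hNfg : ∀ s, (Nj s).FG := fun s => ⟨s.image Subtype.val, by rw [Finset.coe_image]⟩
  have hmemNj : ∀ x : N, (x : M) ∈ Nj {x} := fun x =>
    AddSubmonoid.subset_closure ⟨x, Finset.mem_coe.2 (Finset.mem_singleton_self x), rfl⟩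
  have hN : N = ⨆ s, Nj s := le_antisymm
    (fun m hm => le_iSup Nj {⟨m, hm⟩} (hmemNj ⟨m, hm⟩)) (iSup_le hNle)
  let Qj : Finset N → AddSubmonoid M := fun s => Q ⊓ Nj s
  have hQj : Monotone Qj := fun s t h => inf_le_inf le_rfl (hNj h)
  have hQ' : Q = ⨆ s, Qj s := le_antisymm
    (fun m hm => le_iSup Qj {⟨m, hQ.le hm⟩} ⟨hm, hmemNj ⟨m, hQ.le hm⟩⟩) (iSup_le fun _ => inf_le_left)
  have hface : ∀ s, Magnet.IsFace (Nj s) (Qj s) := fun s =>
    { le := inf_le_right
      mem_of_add_mem := fun x hx y hy h => by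
        have := hQ.mem_of_add_mem x (hNle s hx) y (hNle s hy) h.1
        exact ⟨⟨this.1, hx⟩, ⟨this.2, hy⟩⟩ }
  have hsq : ∀ s, (Magnet.AMonS.faceMap S hQ ▷ Over.mk str) ≫ (Magnet.AMonS.map S (AddSubmonoid.inclusion (hNle s)) ▷ Over.mk str) =
      (Magnet.AMonS.map S (AddSubmonoid.inclusion (inf_le_left : Qj s ≤ Q)) ▷ Over.mk str) ≫ (Magnet.AMonS.faceMap S (hface s) ▷ Over.mk str) :=
    fun s => by
      rw [← comp_whiskerRight, ← comp_whiskerRight,
        faceMap_map_incl hQ (hface s) (hNle s) inf_le_left (fun m h h' => ⟨h', h⟩)]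
  obtain ⟨i, hi, φ₀, hφ₀⟩ := exists_stage_of_eq aX Nj hNj hN (Over.mk str) φ
  obtain ⟨j, hj, ψ₀, hψ₀⟩ := exists_stage_of_eq aU Qj hQj hQ' (Over.mk str) ψ
  -- all data at a stage `k`
  have stage : ∀ k, ∀ (hik : i ≤ k) (hjk : j ≤ k), ∀ l : (Magnet.attr aU (Nj k)).obj (op (Over.mk str)),
      (l.1 ≫ f = (Magnet.AMonS.map S (AddSubmonoid.inclusion (hNj hik)) ▷ Over.mk str) ≫ φ₀.1 ∧
        (Magnet.AMonS.faceMap S (hface k) ▷ Over.mk str) ≫ l.1 =
          (Magnet.AMonS.map S (AddSubmonoid.inclusion (hQj hjk)) ▷ Over.mk str) ≫ ψ₀.1) ↔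
      (((Magnet.attrMap aU (hNle k)).app _ l).1 ≫ f = φ.1 ∧
        (Magnet.AMonS.faceMap S hQ ▷ Over.mk str) ≫ ((Magnet.attrMap aU (hNle k)).app _ l).1 = ψ.1) := by
    intro k hik hjk l
    change _ ↔ (((Magnet.AMonS.map S (AddSubmonoid.inclusion (hNle k)) ▷ Over.mk str) ≫ l.1) ≫ f = φ.1 ∧
      (Magnet.AMonS.faceMap S hQ ▷ Over.mk str) ≫ (Magnet.AMonS.map S (AddSubmonoid.inclusion (hNle k)) ▷ Over.mk str) ≫ l.1 = ψ.1)
    rw [← hφ₀, ← hψ₀, reassoc_of% hsq k, Category.assoc]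
    have e₁ : (Magnet.AMonS.map S (AddSubmonoid.inclusion hi) ▷ Over.mk str) =
        (Magnet.AMonS.map S (AddSubmonoid.inclusion (hNle k)) ▷ Over.mk str) ≫
          (Magnet.AMonS.map S (AddSubmonoid.inclusion (hNj hik)) ▷ Over.mk str) := by
      rw [← comp_whiskerRight, map_incl_comp]
    have e₂ : (Magnet.AMonS.map S (AddSubmonoid.inclusion hj) ▷ Over.mk str) =
        (Magnet.AMonS.map S (AddSubmonoid.inclusion (inf_le_left : Qj k ≤ Q)) ▷ Over.mk str) ≫
          (Magnet.AMonS.map S (AddSubmonoid.inclusion (hQj hjk)) ▷ Over.mk str) := by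
      rw [← comp_whiskerRight, map_incl_comp]
    rw [e₁, e₂, Category.assoc, Category.assoc]
    refine ⟨fun h => ⟨by rw [h.1], by rw [h.2]⟩, fun h => ⟨?_, ?_⟩⟩
    · exact ext_of_map (AddSubmonoid.inclusion (hNle k)) (AddSubmonoid.inclusion_injective _) h.1
    · exact ext_of_map (AddSubmonoid.inclusion (inf_le_left : Qj k ≤ Q)) (AddSubmonoid.inclusion_injective _) h.2
  let k₀ := i ∪ j
  have hik : i ≤ k₀ := Finset.subset_union_left
  have hjk : j ≤ k₀ := Finset.subset_union_right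
  have hck : ∀ k (hik : i ≤ k) (hjk : j ≤ k),
      ((Magnet.AMonS.map S (AddSubmonoid.inclusion (hQj hjk)) ▷ Over.mk str) ≫ ψ₀.1) ≫ f =
        (Magnet.AMonS.faceMap S (hface k) ▷ Over.mk str) ≫
          (Magnet.AMonS.map S (AddSubmonoid.inclusion (hNj hik)) ▷ Over.mk str) ≫ φ₀.1 := by
    intro k hik hjk
    refine ext_of_map (AddSubmonoid.inclusion (inf_le_left : Qj k ≤ Q)) (AddSubmonoid.inclusion_injective _) ?_
    rw [← reassoc_of% hsq k, Category.assoc, ← comp_whiskerRight_assoc, map_incl_comp, reassoc_of% hψ₀, hc,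
      ← comp_whiskerRight_assoc (Magnet.AMonS.map S _), map_incl_comp, hφ₀]
  have goodk : ∀ k (hik : i ≤ k) (hjk : j ≤ k), ∃! l : (Magnet.attr aU (Nj k)).obj (op (Over.mk str)),
      l.1 ≫ f = (Magnet.AMonS.map S (AddSubmonoid.inclusion (hNj hik)) ▷ Over.mk str) ≫ φ₀.1 ∧
        (Magnet.AMonS.faceMap S (hface k) ▷ Over.mk str) ≫ l.1 =
          (Magnet.AMonS.map S (AddSubmonoid.inclusion (hQj hjk)) ▷ Over.mk str) ≫ ψ₀.1 := fun k hik hjk =>
    good_of_fg aU aX hf (hface k) (hNfg k) (Over.mk str) ((Magnet.attrMap aX (hNj hik)).app _ φ₀)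
      ((Magnet.attrMap aU (hQj hjk)).app _ ψ₀) (hck k hik hjk)
  obtain ⟨l, hl⟩ := (goodk k₀ hik hjk).exists
  refine ⟨(Magnet.attrMap aU (hNle k₀)).app _ l, (stage k₀ hik hjk l).1 hl, fun l' hl' => ?_⟩
  obtain ⟨m, hm, l₀, hl₀⟩ := exists_stage_of_eq aU Nj hNj hN (Over.mk str) l'
  let k := k₀ ∪ m
  have hk : k₀ ≤ k := Finset.subset_union_left
  have hmk : m ≤ k := Finset.subset_union_right
  have push : ∀ (s : Finset N) (hs : s ≤ k) (z : (Magnet.attr aU (Nj s)).obj (op (Over.mk str))),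
      (Magnet.attrMap aU (hNle k)).app _ ((Magnet.attrMap aU (hNj hs)).app _ z) = (Magnet.attrMap aU (hNle s)).app _ z :=
    fun s hs z => Subtype.ext (by
      change (_ ▷ _) ≫ (_ ▷ _) ≫ z.1 = (_ ▷ _) ≫ z.1
      rw [← comp_whiskerRight_assoc, map_incl_comp])
  have hl₁ : (Magnet.attrMap aU (hNle m)).app _ l₀ = l' := Subtype.ext hl₀
  have a₁ : ((Magnet.attrMap aU (hNj hk)).app (op (Over.mk str)) l) = (Magnet.attrMap aU (hNj hmk)).app _ l₀ :=
    (goodk k (hik.trans hk) (hjk.trans hk)).unique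
      ((stage k (hik.trans hk) (hjk.trans hk) _).2 (by rw [push k₀ hk l]; exact (stage k₀ hik hjk l).1 hl))
      ((stage k (hik.trans hk) (hjk.trans hk) _).2 (by rw [push m hmk l₀, hl₁]; exact hl'))
  rw [← push k₀ hk l, a₁, push m hmk l₀, hl₁]

include hf in
theorem isPullback_of_good {N Q : AddSubmonoid M} (hQ : Magnet.IsFace N Q) (h : ∀ T, Good aU aX (f := f) hQ T) :
    IsPullback (Magnet.MonAct.eqvHom.postcomp (Magnet.subAct S M N) f hf)
      (Magnet.attrFace aU hQ) (Magnet.attrFace aX hQ) (Magnet.MonAct.eqvHom.postcomp (Magnet.subAct S M Q) f hf) := by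
  refine IsPullback.of_forall_isPullback_app fun T => ?_
  obtain ⟨T⟩ := T
  rw [CategoryTheory.Limits.Types.isPullback_iff]
  refine ⟨?_, ?_, ?_⟩
  · ext l
    refine Subtype.ext ?_
    change (Magnet.AMonS.faceMap S hQ ▷ T) ≫ l.1 ≫ f = ((Magnet.AMonS.faceMap S hQ ▷ T) ≫ l.1) ≫ f
    rw [Category.assoc]
  · intro l l' e
    exact (h T ((Magnet.MonAct.eqvHom.postcomp (Magnet.subAct S M N) f hf).app _ l') ((Magnet.attrFace aU hQ).app _ l')
      (Category.assoc _ _ _)).unique ⟨congrArg Subtype.val e.1, congrArg Subtype.val e.2⟩ ⟨rfl, rfl⟩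
  · intro φ ψ e
    obtain ⟨l, hl, -⟩ := h T φ ψ (congrArg Subtype.val e).symm
    exact ⟨l, Subtype.ext hl.1, Subtype.ext hl.2⟩

end

end Groth.Agent.MagnetEt
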