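import Mathlib
import Groth.Agent.MagnetEt.Main
import Groth.Agent.MagnetHom.Descent
import Groth.Agent.DSMapLib.Pts
import Groth.Agent.DSMapLib.Exact

/-! Fixed point reflecting squares as squares of attractors of a subgroup. -/

set_option autoImplicit false
set_option maxHeartbeats 1000000
universe u

open CategoryTheory CategoryTheory.Limits MonoidalCategory CartesianMonoidalCategory MonObj AlgebraicGeometry Opposite

namespace Groth.Agent.MagnetEt

noncomputable section

variable {S : Scheme.{u}}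

theorem exists_iso_fixed_quotient (M : Type) [AddCommGroup M] [AddGroup.FG M] (Z : AddSubgroup M) {X : Over S}
    (a : Magnet.MonAct (Magnet.AMonS S M) X) :
    ∃ e : Magnet.attr a Z.toAddSubmonoid ≅
        Magnet.MonAct.fixedPsh (a.restrict (Magnet.AMonS.map S (QuotientAddGroup.mk' Z))),
      e.hom ≫ Magnet.MonAct.fixedPshι _ = Magnet.attrToX a Z.toAddSubmonoid := by
  exact Groth.Agent.MagnetHom.exists_iso_fixed (A := Red.DS S M) (Magnet.AMonS.map S Z.toAddSubmonoid.subtype)
    (Magnet.AMonS.map S (QuotientAddGroup.mk' Z))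
    (Groth.Agent.MagnetHom.isFSQ_DSmap (S := S) Z.subtype Z.subtype_injective)
    (Groth.Agent.DSMapLib.comp_eq_one Z.subtype (QuotientAddGroup.mk' Z)
      (AddMonoidHom.ext fun z => (QuotientAddGroup.eq_zero_iff _).mpr z.2))
    (fun k hk => Groth.Agent.MagnetHom.exists_lift_kernel Z k hk) a

/-- A lift of a point of `X^Z` to `U` is a point of `U^Z` when the fixed point square is cartesian. -/
theorem exists_attr_of_fpr {M : Type} [AddCommGroup M] [AddGroup.FG M] {X U : Over S}
    (aU : Magnet.MonAct (Magnet.AMonS S M) U) (aX : Magnet.MonAct (Magnet.AMonS S M) X)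
    {g : U ⟶ X} (hg : Magnet.MonAct.IsEquivariant aU aX g) (Z : AddSubgroup M)
    (hgZ : Magnet.MonAct.IsEquivariant (aU.restrict (Magnet.AMonS.map S (QuotientAddGroup.mk' Z)))
      (aX.restrict (Magnet.AMonS.map S (QuotientAddGroup.mk' Z))) g)
    (hfpr : IsPullback (Magnet.MonAct.fixedPsh.map g hgZ)
      (Magnet.MonAct.fixedPshι (aU.restrict (Magnet.AMonS.map S (QuotientAddGroup.mk' Z))))
      (Magnet.MonAct.fixedPshι (aX.restrict (Magnet.AMonS.map S (QuotientAddGroup.mk' Z)))) (yoneda.map g))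
    {Q : AddSubmonoid M} (hQ : Q = Z.toAddSubmonoid)
    {T : Over S} (x : (Magnet.attr aX Q).obj (op T)) (u : T ⟶ U)
    (hu : u ≫ g = (Magnet.attrToX aX Q).app (op T) x) :
    ∃ ψ : (Magnet.attr aU Q).obj (op T), ψ.1 ≫ g = x.1 ∧ (Magnet.attrToX aU Q).app (op T) ψ = u := by
  subst hQ
  obtain ⟨eU, heU⟩ := exists_iso_fixed_quotient M Z aU
  obtain ⟨eX, heX⟩ := exists_iso_fixed_quotient M Z aX
  have hp := hfpr.app (op T)
  rw [CategoryTheory.Limits.Types.isPullback_iff] at hp
  have hx : (Magnet.MonAct.fixedPshι _).app (op T) (eX.hom.app (op T) x) = (Magnet.attrToX aX _).app (op T) x :=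
    congrArg (fun z => z.app (op T) x) heX
  obtain ⟨v, hv, hvu⟩ := hp.2.2 (eX.hom.app (op T) x) u (hx.trans hu.symm)
  let ψ := eU.inv.app (op T) v
  have hψ : eU.hom.app (op T) ψ = v := congrArg (fun z => z.app (op T) v) eU.inv_hom_id
  have hψu : (Magnet.attrToX aU _).app (op T) ψ = u := by
    rw [← congrArg (fun z => z.app (op T) ψ) heU]
    exact (congrArg ((Magnet.MonAct.fixedPshι _).app (op T)) hψ).trans hvu
  refine ⟨ψ, ?_, hψu⟩
  have e : (Magnet.MonAct.eqvHom.postcomp (Magnet.subAct S M Z.toAddSubmonoid) g hg).app (op T) ψ = x := by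
    have hinj : Function.Injective (eX.hom.app (op T)) := fun y z e => by
      have h1 := congrArg (eX.inv.app (op T)) e
      have h2 := fun w => congrArg (fun z => z.app (op T) w) eX.hom_inv_id
      exact (h2 y).symm.trans (h1.trans (h2 z))
    refine hinj (Subtype.ext ?_)
    have h1 := congrArg (fun z => z.app (op T)
      ((Magnet.MonAct.eqvHom.postcomp (Magnet.subAct S M Z.toAddSubmonoid) g hg).app (op T) ψ)) heX
    refine Eq.trans h1 (Eq.trans ?_ (hu.trans hx.symm))
    rw [← hψu]
    change lift (toUnit T ≫ η[Magnet.AMonS S Z.toAddSubmonoid]) (𝟙 T) ≫ ψ.1 ≫ g =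
      (lift (toUnit T ≫ η[Magnet.AMonS S Z.toAddSubmonoid]) (𝟙 T) ≫ ψ.1) ≫ g
    rw [Category.assoc]
  exact congrArg Subtype.val e

/-- The subgroup of invertible elements. -/
def unitGroup {M : Type} [AddCommGroup M] (N : AddSubmonoid M) : AddSubgroup M :=
  { Magnet.unitFace N with
    neg_mem' := by
      rintro x ⟨hx, y, hy, hxy⟩
      obtain rfl : y = -x := (eq_neg_of_add_eq_zero_right hxy)
      exact ⟨hy, x, hx, neg_add_cancel x⟩ }

end

end Groth.Agent.MagnetEt
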