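import Mathlib
import Groth.Agent.MagnetEt.AtlasFix

/-! Attractors along an affine fixed point reflecting étale atlas. -/

set_option autoImplicit false
set_option backward.isDefEq.respectTransparency false
set_option backward.isDefEq.respectTransparency.types false
set_option maxHeartbeats 1000000
universe u

open CategoryTheory CategoryTheory.Limits MonoidalCategory CartesianMonoidalCategory MonObj AlgebraicGeometry Opposite

namespace Groth.Agent.MagnetEt

open Groth.Agent.MagnetHom

noncomputable section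

attribute [-instance] AlgebraicGeometry.instGrpObjSpecAsOverSpec AlgebraicGeometry.instCommGrpObjSpecAsOverSpec

variable {S : Scheme.{u}} {M : Type} [AddCommGroup M]

theorem single_mem_over {T T' : Over S} (p : T' ⟶ T) [Flat p.left] [Surjective p.left] [LocallyOfFinitePresentation p.left]
    (R : Sieve T) (hR : R p) : R ∈ Scheme.fppfTopology.over S T := by
  rw [GrothendieckTopology.mem_over_iff]
  refine GrothendieckTopology.superset_covering _ ?_
    (Precoverage.generate_mem_toGrothendieck (Scheme.Hom.singleton_mem_fppfPrecoverage p.left))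
  rw [Sieve.generate_le_iff]
  rintro _ _ ⟨⟩
  refine (Sieve.overEquiv_iff _ _).mpr ?_
  have e : (Over.homMk p.left : Over.mk (p.left ≫ T.hom) ⟶ T) =
      (Over.homMk (𝟙 _) (by simp [Over.w p]) : Over.mk (p.left ≫ T.hom) ⟶ T') ≫ p :=
    Over.OverMorphism.ext (Category.id_comp _).symm
  rw [e]
  exact R.downward_closed hR _

/-- Having an orbit is fppf local. -/
theorem hasOrbit_of_single {X : Over S} [IsSeparated X.hom] (a : Magnet.MonAct (Magnet.AMonS S M) X) (N : AddSubmonoid M)
    {T T' : Over S} (p : T' ⟶ T) [Flat p.left] [Surjective p.left] [LocallyOfFinitePresentation p.left]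
    {x : T ⟶ X} (h : HasOrbit a N (p ≫ x)) : HasOrbit a N x := by
  have hF : Presieve.IsSheaf (Scheme.fppfTopology.over S) (Magnet.attr a N) :=
    (isSheaf_iff_isSheaf_of_type _ _).mp (Groth.Agent.S18294.result S (Magnet.AMonS S M) _ X (Magnet.subAct S M N) a)
  have hX : Presieve.IsSheaf (Scheme.fppfTopology.over S) (yoneda.obj X) :=
    GrothendieckTopology.Subcanonical.isSheaf_of_isRepresentable _
  let R : Sieve T :=
    { arrows := fun T' t => HasOrbit a N (t ≫ x)
      downward_closed := fun {Y Z f} hf g => by rw [Category.assoc]; exact hf.comp g }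
  have hR : R ∈ Scheme.fppfTopology.over S T := single_mem_over p R h
  choose φ hφ using fun (T' : Over S) (t : T' ⟶ T) (ht : R t) => HasOrbit.exists_attr (a := a) (N := N) ht
  have hc : Presieve.FamilyOfElements.Compatible
      (fun T' t ht => φ T' t ht : Presieve.FamilyOfElements (Magnet.attr a N) R.arrows) := by
    intro T₁ T₂ W g₁ g₂ f₁ f₂ h₁ h₂ e
    apply attrToX_injective a N W
    change (Magnet.attrToX a N).app (op W) _ = (Magnet.attrToX a N).app (op W) _
    rw [attrToX_map, attrToX_map, hφ, hφ, ← Category.assoc, e, Category.assoc]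
  obtain ⟨ψ, hψ, -⟩ := hF R hR _ hc
  have : (Magnet.attrToX a N).app (op T) ψ = x := by
    refine (hX R hR).isSeparatedFor.ext fun T' t ht => ?_
    refine Eq.trans ?_ (hφ T' t ht).symm.symm
    exact (attrToX_map a N t ψ).symm.trans (congrArg _ (hψ t ht))
  exact this ▸ hasOrbit_attrToX a N ψ

/-- Points of the attractor lift to the atlas after an étale cover. -/
theorem exists_lift_atlas [AddGroup.FG M] {X U : Over S}
    (aU : Magnet.MonAct (Magnet.AMonS S M) U) (aX : Magnet.MonAct (Magnet.AMonS S M) X)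
    {g : U ⟶ X} (hg : Magnet.MonAct.IsEquivariant aU aX g) [Etale g.left] [Surjective g.left]
    {N Q : AddSubmonoid M} (hQ : Magnet.IsFace N Q)
    (hfpr : ∀ {T : Over S} (x : (Magnet.attr aX Q).obj (op T)) (u : T ⟶ U),
      u ≫ g = (Magnet.attrToX aX Q).app (op T) x →
      ∃ ψ : (Magnet.attr aU Q).obj (op T), ψ.1 ≫ g = x.1 ∧ (Magnet.attrToX aU Q).app (op T) ψ = u)
    (hgood : ∀ T, Good aU aX (f := g) hQ T) {T : Over S} (φ : (Magnet.attr aX N).obj (op T)) :
    ∃ (T' : Over S) (p : T' ⟶ T) (l : (Magnet.attr aU N).obj (op T')), Etale p.left ∧ Surjective p.left ∧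
      l.1 ≫ g = ((Magnet.attr aX N).map p.op φ).1 := by
  let x₀ := (Magnet.attrFace aX hQ).app (op T) φ
  let z := (Magnet.attrToX aX Q).app (op T) x₀
  let T' : Over S := Over.mk (pullback.fst z.left g.left ≫ T.hom)
  let p : T' ⟶ T := Over.homMk (pullback.fst z.left g.left) rfl
  let u : T' ⟶ U := Over.homMk (pullback.snd z.left g.left) (by
    change pullback.snd z.left g.left ≫ U.hom = pullback.fst z.left g.left ≫ T.hom
    rw [← Over.w g, ← pullback.condition_assoc, Over.w z])
  have hu : u ≫ g = (Magnet.attrToX aX Q).app (op T') ((Magnet.attr aX Q).map p.op x₀) := by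
    rw [attrToX_map]
    exact Over.OverMorphism.ext pullback.condition.symm
  obtain ⟨ψ, hψ, -⟩ := hfpr _ u hu
  obtain ⟨l, hl, -⟩ := (hgood T' ((Magnet.attr aX N).map p.op φ) ψ (by
    rw [hψ]
    exact (whisker_exchange_assoc _ _ _).trans rfl)).exists.imp (fun l hl => (And.intro hl.1 hl.2))
  exact ⟨T', p, l, MorphismProperty.pullback_fst _ _ inferInstance, MorphismProperty.pullback_fst _ _ inferInstance, hl⟩

/-- Equality of the images of two attractors descends from the atlas. -/
theorem range_subset_of_atlas [AddGroup.FG M] {X U : Over S} [IsSeparated X.hom]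
    (aU : Magnet.MonAct (Magnet.AMonS S M) U) (aX : Magnet.MonAct (Magnet.AMonS S M) X)
    {g : U ⟶ X} (hg : Magnet.MonAct.IsEquivariant aU aX g) [Etale g.left] [Surjective g.left]
    {N Q : AddSubmonoid M} (hQ : Magnet.IsFace N Q)
    (hfpr : ∀ {T : Over S} (x : (Magnet.attr aX Q).obj (op T)) (u : T ⟶ U),
      u ≫ g = (Magnet.attrToX aX Q).app (op T) x →
      ∃ ψ : (Magnet.attr aU Q).obj (op T), ψ.1 ≫ g = x.1 ∧ (Magnet.attrToX aU Q).app (op T) ψ = u)
    (hgood : ∀ T, Good aU aX (f := g) hQ T) (L : AddSubmonoid M)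
    (hU : ∀ T : Over S, Set.range (fun φ => (Magnet.attrToX aU N).app (op T) φ) ⊆
      Set.range (fun φ => (Magnet.attrToX aU L).app (op T) φ)) (T : Over S) :
    Set.range (fun φ => (Magnet.attrToX aX N).app (op T) φ) ⊆
      Set.range (fun φ => (Magnet.attrToX aX L).app (op T) φ) := by
  rintro _ ⟨φ, rfl⟩
  obtain ⟨T', p, l, hp, hps, hl⟩ := exists_lift_atlas aU aX hg hQ hfpr hgood φ
  obtain ⟨l', hl'⟩ := hU T' ⟨l, rfl⟩
  rw [← hasOrbit_iff]
  refine hasOrbit_of_single aX L p ?_
  rw [hasOrbit_iff]
  refine ⟨(Magnet.MonAct.eqvHom.postcomp (Magnet.subAct S M L) g hg).app (op T') l', ?_⟩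
  dsimp only at hl' ⊢
  rw [← attrToX_map]
  have key : ∀ (K : AddSubmonoid M) (k : (Magnet.attr aU K).obj (op T')),
      (Magnet.attrToX aX K).app (op T') ((Magnet.MonAct.eqvHom.postcomp (Magnet.subAct S M K) g hg).app (op T') k) =
        (Magnet.attrToX aU K).app (op T') k ≫ g := fun K k => by
    change lift (toUnit T' ≫ η[Magnet.AMonS S K]) (𝟙 T') ≫ k.1 ≫ g =
      (lift (toUnit T' ≫ η[Magnet.AMonS S K]) (𝟙 T') ≫ k.1) ≫ g
    rw [Category.assoc]
  rw [key, hl', ← key]
  exact congrArg _ (Subtype.ext hl)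

end

end Groth.Agent.MagnetEt
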