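import Mathlib
import Groth.Prelude.Def_QuotSh
import Groth.Agent.SchDesc.QAff
import Groth.Agent.SchDesc.Local
import Groth.Agent.ASp.Fpqc

/-! Representability of a sheaf over a scheme from an affine morphism over an fppf cover of that scheme. -/

set_option autoImplicit false
set_option linter.style.haveILetI false
set_option synthInstance.maxHeartbeats 400000
set_option maxHeartbeats 1000000
universe u

open CategoryTheory CategoryTheory.Limits AlgebraicGeometry Opposite

namespace Groth.Agent.MagnetEt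

noncomputable section

variable {S : Scheme.{u}} {F : (Over S)ᵒᵖ ⥤ Type u}

theorem singleton_sieve_mem {T' T : Over S} (t : T' ⟶ T) [Flat t.left] [LocallyOfFinitePresentation t.left]
    [Surjective t.left] : Sieve.generate (Presieve.singleton t) ∈ QuotSh.J Scheme.fppfPrecoverage S T := by
  change _ ∈ (Scheme.fppfPrecoverage.toGrothendieck.over S) _
  rw [GrothendieckTopology.mem_over_iff]
  refine GrothendieckTopology.superset_covering _ ?_
    (Precoverage.generate_mem_toGrothendieck t.left.singleton_mem_fppfPrecoverage)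
  rw [Sieve.generate_le_iff]
  rintro _ _ ⟨⟩
  exact ⟨T', t, 𝟙 _, Sieve.le_generate _ _ _ (Presieve.singleton.mk), (Category.id_comp _).symm⟩

theorem map_comp_apply' {T T' T'' : Over S} (a : T'' ⟶ T') (b : T' ⟶ T) (s : F.obj (op T)) :
    F.map (a ≫ b).op s = F.map a.op (F.map b.op s) := by
  rw [op_comp, F.map_comp, ConcreteCategory.comp_apply]

/-- An element on a cover with equal restrictions descends uniquely. -/
theorem glue_cover (hF : Presheaf.IsSheaf (QuotSh.J Scheme.fppfPrecoverage S) F) {T' T : Over S} (t : T' ⟶ T)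
    [Flat t.left] [LocallyOfFinitePresentation t.left] [Surjective t.left] (s : F.obj (op T'))
    (hs : ∀ {Y : Over S} (a b : Y ⟶ T'), a ≫ t = b ≫ t → F.map a.op s = F.map b.op s) :
    ∃ σ : F.obj (op T), F.map t.op σ = s := by
  have hFR := (isSheaf_iff_isSheaf_of_type _ _).mp hF _ (singleton_sieve_mem t)
  have hfac : ∀ {Y : Over S} (g : Y ⟶ T), Sieve.generate (Presieve.singleton t) g → ∃ h : Y ⟶ T', h ≫ t = g := by
    rintro Y g ⟨_, h, _, ⟨⟩, e⟩
    exact ⟨h, e⟩
  choose h hh using @hfac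
  obtain ⟨σ, hσ, -⟩ := hFR (fun Y g hg => F.map (h g hg).op s) (fun Y₁ Y₂ Y g₁ g₂ f₁ f₂ h₁ h₂ e => by
    rw [← map_comp_apply', ← map_comp_apply']
    exact hs _ _ (by rw [Category.assoc, Category.assoc, hh, hh, e]))
  have ht : Sieve.generate (Presieve.singleton t) t := Sieve.le_generate _ _ _ Presieve.singleton.mk
  refine ⟨σ, (hσ t ht).trans ((hs _ (𝟙 T') (by rw [hh, Category.id_comp])).trans ?_)⟩
  rw [op_id, F.map_id]
  rfl

theorem cover_injective (hF : Presheaf.IsSheaf (QuotSh.J Scheme.fppfPrecoverage S) F) {T' T : Over S} (t : T' ⟶ T)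
    [Flat t.left] [LocallyOfFinitePresentation t.left] [Surjective t.left] (σ σ' : F.obj (op T))
    (e : F.map t.op σ = F.map t.op σ') : σ = σ' := by
  refine ((isSheaf_iff_isSheaf_of_type _ _).mp hF _ (singleton_sieve_mem t)).isSeparatedFor.ext ?_
  rintro Y g ⟨_, h, _, ⟨⟩, rfl⟩
  rw [map_comp_apply', map_comp_apply', e]

/-- Two points of `Z'` with the same image in `F`. -/
def SameImage {Z' : Over S} (e' : yoneda.obj Z' ⟶ F) {T : Scheme.{u}} (v v' : T ⟶ Z'.left) : Prop :=
  ∃ e : v' ≫ Z'.hom = v ≫ Z'.hom,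
    e'.app (op (Over.mk (v ≫ Z'.hom))) (Over.homMk v) = e'.app (op (Over.mk (v ≫ Z'.hom))) (Over.homMk v' e)

theorem app_comp {Z' : Over S} (e' : yoneda.obj Z' ⟶ F) {T T' : Over S} (a : T' ⟶ T) (z : T ⟶ Z') :
    F.map a.op (e'.app (op T) z) = e'.app (op T') (a ≫ z) :=
  (congrArg (fun k => k z) (e'.naturality a.op)).symm

theorem sameImage_iff {Z' : Over S} (e' : yoneda.obj Z' ⟶ F) {T : Over S} (a a' : T ⟶ Z') :
    SameImage e' a.left a'.left ↔ e'.app (op T) a = e'.app (op T) a' := by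
  let c : Over.mk (a.left ≫ Z'.hom) ⟶ T := Over.homMk (𝟙 T.left) (by simp)
  let d : T ⟶ Over.mk (a.left ≫ Z'.hom) := Over.homMk (𝟙 T.left) (by simp)
  have hw : a'.left ≫ Z'.hom = a.left ≫ Z'.hom := (Over.w a').trans (Over.w a).symm
  have h1 : c ≫ a = (Over.homMk a.left : Over.mk (a.left ≫ Z'.hom) ⟶ Z') :=
    Over.OverMorphism.ext (Category.id_comp _)
  have h2 : c ≫ a' = (Over.homMk a'.left hw : Over.mk (a.left ≫ Z'.hom) ⟶ Z') :=
    Over.OverMorphism.ext (Category.id_comp _)
  constructor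
  · rintro ⟨_, h⟩
    have h' := congrArg (F.map d.op) h
    rw [app_comp, app_comp] at h'
    have e1 : d ≫ (Over.homMk a.left : Over.mk (a.left ≫ Z'.hom) ⟶ Z') = a :=
      Over.OverMorphism.ext (Category.id_comp _)
    have e2 : d ≫ (Over.homMk a'.left hw : Over.mk (a.left ≫ Z'.hom) ⟶ Z') = a' :=
      Over.OverMorphism.ext (Category.id_comp _)
    rwa [e1, e2] at h'
  · intro h
    refine ⟨hw, ?_⟩
    have h' := congrArg (F.map c.op) h
    rw [app_comp, app_comp] at h'
    rwa [h1, h2] at h'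

/-- A sheaf over `W` which becomes an affine `W'`-scheme on an fppf cover `W' ⟶ W` is representable by an affine
`W`-scheme. -/
theorem exists_representableBy_of_affine_cover (hF : Presheaf.IsSheaf (QuotSh.J Scheme.fppfPrecoverage S) F)
    {W W' Z' : Over S} (η : F ⟶ yoneda.obj W) (p : W' ⟶ W) [Flat p.left] [LocallyOfFinitePresentation p.left]
    [Surjective p.left] (j' : Z' ⟶ W') [IsAffineHom j'.left] (e' : yoneda.obj Z' ⟶ F)
    (hpb : IsPullback e' (yoneda.map j') η (yoneda.map p)) :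
    ∃ (Z : Over S) (j : Z ⟶ W) (e : F.RepresentableBy Z), IsAffineHom j.left ∧
      ∀ (T : Over S) (z : T ⟶ Z), η.app (op T) (e.homEquiv z) = z ≫ j := by
  have hw : ∀ {T : Over S} (z : T ⟶ Z'), η.app (op T) (e'.app (op T) z) = z ≫ j' ≫ p := fun {T} z =>
    (congrArg (fun k => k.app (op T) z) hpb.w).trans (show (z ≫ j') ≫ p = z ≫ j' ≫ p from Category.assoc _ _ _)
  have hnat : ∀ {T T' : Over S} (a : T' ⟶ T) (s : F.obj (op T)), η.app (op T') (F.map a.op s) = a ≫ η.app (op T) s :=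
    fun a s => congrArg (fun k => k s) (η.naturality a.op)
  have hsq := fun T : Over S => (CategoryTheory.Limits.Types.isPullback_iff _ _ _ _).mp (hpb.app (op T))
  have hlift : ∀ {T : Over S} (s : F.obj (op T)) (u : T ⟶ W'), η.app (op T) s = u ≫ p →
      ∃ z : T ⟶ Z', e'.app (op T) z = s ∧ z ≫ j' = u := fun {T} s u h => (hsq T).2.2 s u h
  have huniq : ∀ {T : Over S} (z z' : T ⟶ Z'), e'.app (op T) z = e'.app (op T) z' → z ≫ j' = z' ≫ j' → z = z' :=
    fun {T} z z' h h' => (hsq T).2.1 z z' ⟨h, h'⟩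
  have refl : ∀ {T : Scheme.{u}} (v : T ⟶ Z'.left), SameImage e' v v := fun v => ⟨rfl, rfl⟩
  have key : ∀ {T : Scheme.{u}} (x₀ x₁ : T ⟶ W'.left), x₀ ≫ p.left = x₁ ≫ p.left →
      ∀ v : _root_.Desc.Lifts (Over.mk j'.left) x₀,
        ∃! v' : _root_.Desc.Lifts (Over.mk j'.left) x₁, SameImage e' v.1 v'.1 := by
    intro T x₀ x₁ h v
    let T₀ : Over S := Over.mk (v.1 ≫ Z'.hom)
    let z₀ : T₀ ⟶ Z' := Over.homMk v.1
    have hv : v.1 ≫ j'.left = x₀ := v.2
    have hstr : x₁ ≫ W'.hom = v.1 ≫ Z'.hom := by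
      rw [← Over.w j', ← Category.assoc, hv, ← Over.w p, ← Category.assoc, ← Category.assoc, h]
    let u₁ : T₀ ⟶ W' := Over.homMk x₁ hstr
    obtain ⟨z₁, h₁, h₁'⟩ := hlift (e'.app (op T₀) z₀) u₁ (by
      rw [hw]
      exact Over.OverMorphism.ext (by
        change v.1 ≫ j'.left ≫ p.left = x₁ ≫ p.left
        rw [← Category.assoc, hv, h]))
    have hz₁ : z₁.left ≫ j'.left = x₁ := congrArg CommaMorphism.left h₁'
    refine ⟨⟨z₁.left, hz₁⟩, (sameImage_iff e' z₀ z₁).mpr h₁.symm, fun v' hv' => Subtype.ext ?_⟩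
    obtain ⟨e, he⟩ := hv'
    have : (Over.homMk v'.1 e : T₀ ⟶ Z') = z₁ := huniq _ _ (he.symm.trans h₁.symm) (Over.OverMorphism.ext
      ((show v'.1 ≫ j'.left = x₁ from v'.2).trans hz₁.symm))
    exact congrArg CommaMorphism.left this
  have rsymm : ∀ {T : Scheme.{u}} {v v' : T ⟶ Z'.left}, SameImage e' v v' → SameImage e' v' v := by
    rintro T v v' ⟨e, he⟩
    exact (sameImage_iff e' (T := Over.mk (v ≫ Z'.hom)) (Over.homMk v' e) (Over.homMk v)).mpr he.symm
  have rtrans : ∀ {T : Scheme.{u}} {v v' v'' : T ⟶ Z'.left}, SameImage e' v v' → SameImage e' v' v'' →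
      SameImage e' v v'' := by
    rintro T v v' v'' ⟨e, he⟩ ⟨e₂, he₂⟩
    exact ⟨e₂.trans e, he.trans ((sameImage_iff e' (T := Over.mk (v ≫ Z'.hom)) (Over.homMk v' e)
      (Over.homMk v'' (e₂.trans e))).mp ⟨e₂, he₂⟩)⟩
  have rcomp : ∀ {T T' : Scheme.{u}} (g : T' ⟶ T) {v v' : T ⟶ Z'.left}, SameImage e' v v' →
      SameImage e' (g ≫ v) (g ≫ v') := by
    rintro T T' g v v' ⟨e, he⟩
    let G : Over.mk (g ≫ v ≫ Z'.hom) ⟶ Over.mk (v ≫ Z'.hom) := Over.homMk g
    have h' := congrArg (F.map G.op) he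
    rw [app_comp, app_comp] at h'
    exact (sameImage_iff e' _ _).mpr h'
  choose mv hmv hmu using @key
  let D : _root_.Desc.SchDD p.left :=
    { obj := Over.mk j'.left
      φ := fun T x₀ x₁ h =>
        { toFun := fun v => mv x₀ x₁ h v
          invFun := fun v => mv x₁ x₀ h.symm v
          left_inv := fun v => (hmu x₁ x₀ h.symm _ v (rsymm (hmv x₀ x₁ h v))).symm
          right_inv := fun v => (hmu x₀ x₁ h _ v (rsymm (hmv x₁ x₀ h.symm v))).symm }
      φ_natural := fun T T' g x₀ x₁ h h' v v' e => by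
        have h1 : SameImage e' v'.1 (g ≫ (mv x₀ x₁ h v).1) := by rw [e]; exact rcomp g (hmv x₀ x₁ h v)
        exact congrArg Subtype.val (hmu (g ≫ x₀) (g ≫ x₁) h' v' ⟨g ≫ (mv x₀ x₁ h v).1,
          (Category.assoc _ _ _).trans (congrArg (g ≫ ·) (mv x₀ x₁ h v).2)⟩ h1).symm
      φ_self := fun T x v => (hmu x x rfl v v (refl v.1)).symm
      φ_comp := fun T x₀ x₁ x₂ h₀₁ h₁₂ v =>
        hmu x₀ x₂ (h₀₁.trans h₁₂) v _ (rtrans (hmv x₀ x₁ h₀₁ v) (hmv x₁ x₂ h₁₂ _)) }
  haveI : Groth.Agent.SchDesc.IsFpqc p.left := Groth.Agent.SchDesc.IsFpqc.of_locallyOfFinitePresentation p.left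
  obtain ⟨QQ⟩ := Groth.Agent.SchDesc.quot_top_of_affine (p := p.left) @IsAffineHom
    (fun f g hf => MorphismProperty.pullback_snd (P := @IsAffineHom) f g hf) D (inferInstanceAs (IsAffineHom j'.left))
    fun P₀ U₀ l q j hP₀ hU₀ hl hl' _ _ _ _ D' hD' => by
      haveI : IsAffine D'.obj.left := isAffine_of_isAffineHom D'.obj.hom
      exact Groth.Agent.SchDesc.quot_of_quasiAffine D'
  let π₀ : Z'.left ⟶ QQ.U := (Scheme.topIso Z'.left).inv ≫ QQ.π
  have hpbS : IsPullback j'.left π₀ p.left QQ.str := by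
    refine QQ.isPullback.of_iso (Scheme.topIso Z'.left) (Iso.refl _) (Iso.refl _) (Iso.refl _) ?_ ?_ (by simp) (by simp)
    · simp [D]
    · simp [π₀]
  have haff : IsAffineHom QQ.str := by
    haveI := Groth.Agent.FpqcDesc.isAffineHom_descends.{u}
    exact MorphismProperty.of_isPullback_of_descendsAlong (P := @IsAffineHom)
      (Q := @Surjective ⊓ @Flat ⊓ @LocallyOfFinitePresentation) hpbS ⟨⟨inferInstance, inferInstance⟩, inferInstance⟩
      ‹IsAffineHom j'.left›
  let Z : Over S := Over.mk (QQ.str ≫ W.hom)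
  let j : Z ⟶ W := Over.homMk QQ.str rfl
  let π : Z' ⟶ Z := Over.homMk π₀ (by
    change π₀ ≫ QQ.str ≫ W.hom = _
    rw [← hpbS.w_assoc, Over.w p, Over.w j'])
  have hπj : π ≫ j = j' ≫ p := Over.OverMorphism.ext hpbS.w.symm
  have hext : ∀ {T : Over S} (a b : T ⟶ Z'), a ≫ π = b ≫ π → a ≫ j' = b ≫ j' → a = b := fun a b h h' =>
    Over.OverMorphism.ext (hpbS.hom_ext (congrArg CommaMorphism.left h') (congrArg CommaMorphism.left h))
  have htop : ∀ {T : Scheme.{u}} (w : T ⟶ Z'.left),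
      (w ≫ (Scheme.topIso Z'.left).inv) ≫ (⊤ : Z'.left.Opens).ι = w := fun w => by
    rw [Category.assoc, ← Scheme.topIso_hom, Iso.inv_hom_id, Category.comp_id]
  have hinv : ∀ {T : Scheme.{u}} (v : T ⟶ Z'.left) (x : T ⟶ W'.left) (h : v ≫ D.obj.hom ≫ p.left = x ≫ p.left),
      Groth.Agent.SchDesc.move D v x h ≫ π₀ = v ≫ π₀ := by
    intro T v x h
    have := QQ.inv (v ≫ (Scheme.topIso Z'.left).inv)
      (Groth.Agent.SchDesc.move D v x h ≫ (Scheme.topIso Z'.left).inv) x (by rw [htop]; exact h)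
      ((Groth.Agent.SchDesc.move_congr D (htop v) _).trans (htop _).symm)
    simpa only [π₀, Category.assoc] using this.symm
  -- the relation on points is the relation of having the same image in the quotient
  have hrel : ∀ {T : Over S} (a b : T ⟶ Z'), a ≫ j' ≫ p = b ≫ j' ≫ p →
      (a ≫ π = b ≫ π ↔ e'.app (op T) a = e'.app (op T) b) := by
    intro T a b h
    have hl : (a.left ≫ j'.left) ≫ p.left = (b.left ≫ j'.left) ≫ p.left := by
      have := congrArg CommaMorphism.left h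
      simpa [Category.assoc] using this
    let c := mv (a.left ≫ j'.left) (b.left ≫ j'.left) hl ⟨a.left, rfl⟩
    have hc : SameImage e' a.left c.1 := hmv _ _ hl _
    have hmove : c.1 = Groth.Agent.SchDesc.move D a.left (b.left ≫ j'.left)
        ((Category.assoc _ _ _).symm.trans hl) :=
      Groth.Agent.SchDesc.φ_eq_move D (a.left ≫ j'.left) (b.left ≫ j'.left) hl ⟨a.left, rfl⟩
    have hcπ : c.1 ≫ π₀ = a.left ≫ π₀ := by rw [hmove]; exact hinv _ _ _
    constructor
    · intro hπ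
      have : c.1 = b.left := hpbS.hom_ext c.2 (hcπ.trans (congrArg CommaMorphism.left hπ))
      rw [this] at hc
      exact (sameImage_iff e' a b).mp hc
    · intro he
      have : (⟨b.left, rfl⟩ : _root_.Desc.Lifts (Over.mk j'.left) (b.left ≫ j'.left)) = c :=
        hmu _ _ hl _ _ ((sameImage_iff e' a b).mpr he)
      exact Over.OverMorphism.ext (hcπ.symm.trans (by rw [← this]; rfl))
  haveI : Flat π.left := MorphismProperty.of_isPullback hpbS inferInstance
  haveI : LocallyOfFinitePresentation π.left := MorphismProperty.of_isPullback hpbS inferInstance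
  haveI : Surjective π.left := MorphismProperty.of_isPullback hpbS inferInstance
  have hjp : ∀ {Y : Over S} (a b : Y ⟶ Z'), a ≫ π = b ≫ π → a ≫ j' ≫ p = b ≫ j' ≫ p := fun a b h => by
    rw [← hπj, ← Category.assoc, h, Category.assoc]
  obtain ⟨ε, hε⟩ := glue_cover hF π (e'.app (op Z') (𝟙 Z')) (fun {Y} a b hab => by
    rw [app_comp, app_comp, Category.comp_id, Category.comp_id]
    exact (hrel a b (hjp a b hab)).mp hab)
  have hεp : ∀ {T : Over S} (a : T ⟶ Z'), F.map (a ≫ π).op ε = e'.app (op T) a := fun a => by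
    rw [map_comp_apply', hε, app_comp, Category.comp_id]
  haveI : Groth.Agent.SchDesc.IsFpqc π.left := Groth.Agent.SchDesc.IsFpqc.of_locallyOfFinitePresentation π.left
  haveI : Epi π.left := inferInstance
  haveI : Epi π := Over.epi_of_epi_left π
  have hηε : η.app (op Z) ε = j := by
    rw [← cancel_epi π, ← hnat, hε, hw, Category.id_comp, hπj]
  have hnj : ∀ {T : Over S} (z : T ⟶ Z), η.app (op T) (F.map z.op ε) = z ≫ j := fun z => by rw [hnat, hηε]
  refine ⟨Z, j, { homEquiv := fun {T} => Equiv.ofBijective (fun z => F.map z.op ε) ⟨?_, ?_⟩,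
                  homEquiv_comp := fun a z => map_comp_apply' a z ε }, haff, fun T z => hnj z⟩
  · intro z w h
    let h' : F.map z.op ε = F.map w.op ε := h
    have hb : z ≫ j = w ≫ j := by rw [← hnj, ← hnj, h']
    let P₀ : Over S := Over.mk (pullback.fst (z ≫ j).left p.left ≫ T.hom)
    let pr : P₀ ⟶ T := Over.homMk (pullback.fst _ _) rfl
    haveI : Groth.Agent.SchDesc.IsFpqc pr.left :=
      Groth.Agent.SchDesc.IsFpqc.of_isPullback (IsPullback.of_hasPullback (z ≫ j).left p.left).flip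
    haveI : Epi pr.left := inferInstance
    haveI : Epi pr := Over.epi_of_epi_left pr
    have mk : ∀ y : T ⟶ Z, y ≫ j = z ≫ j → ∃ a : P₀ ⟶ Z', a ≫ π = pr ≫ y ∧
        a.left ≫ j'.left = pullback.snd (z ≫ j).left p.left := by
      intro y hy
      let v := hpbS.lift (pullback.snd (z ≫ j).left p.left) (pullback.fst (z ≫ j).left p.left ≫ y.left) (by
        rw [Category.assoc, ← pullback.condition]
        exact congrArg _ (congrArg CommaMorphism.left hy).symm)
      have hv : v ≫ π₀ = pullback.fst (z ≫ j).left p.left ≫ y.left := hpbS.lift_snd _ _ _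
      exact ⟨Over.homMk v (by rw [← Over.w π, ← Category.assoc, show v ≫ π.left = _ from hv, Category.assoc, Over.w y]; rfl),
        Over.OverMorphism.ext hv, hpbS.lift_fst _ _ _⟩
    obtain ⟨a, ha, ha'⟩ := mk z rfl
    obtain ⟨b, hb₁, hb'⟩ := mk w hb.symm
    have hab : a = b := by
      refine huniq a b ?_ (Over.OverMorphism.ext (ha'.trans hb'.symm))
      rw [← hεp, ← hεp, ha, hb₁, map_comp_apply', map_comp_apply', h']
    rw [← cancel_epi pr, ← ha, ← hb₁, hab]
  · intro s
    let b : T ⟶ W := η.app (op T) s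
    let P₀ : Over S := Over.mk (pullback.fst b.left p.left ≫ T.hom)
    let pr : P₀ ⟶ T := Over.homMk (pullback.fst _ _) rfl
    haveI : Flat pr.left := MorphismProperty.pullback_fst (P := @Flat) _ _ inferInstance
    haveI : LocallyOfFinitePresentation pr.left :=
      MorphismProperty.pullback_fst (P := @LocallyOfFinitePresentation) _ _ inferInstance
    haveI : Surjective pr.left := MorphismProperty.pullback_fst (P := @Surjective) _ _ inferInstance
    haveI : Groth.Agent.SchDesc.IsFpqc pr.left := Groth.Agent.SchDesc.IsFpqc.of_locallyOfFinitePresentation pr.left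
    let u : P₀ ⟶ W' := Over.homMk (pullback.snd _ _) (by
      change pullback.snd _ _ ≫ W'.hom = pullback.fst _ _ ≫ T.hom
      rw [← Over.w p, ← pullback.condition_assoc, Over.w b])
    have hu : η.app (op P₀) (F.map pr.op s) = u ≫ p := by
      rw [hnat]; exact Over.OverMorphism.ext pullback.condition
    obtain ⟨z', hz', hz'u⟩ := hlift _ u hu
    have hcocycle : ∀ {Y : Scheme.{u}} (g₁ g₂ : Y ⟶ P₀.left), g₁ ≫ pr.left = g₂ ≫ pr.left →
        g₁ ≫ (z' ≫ π).left = g₂ ≫ (z' ≫ π).left := by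
      intro Y g₁ g₂ hg
      let G₁ : Over.mk (g₁ ≫ P₀.hom) ⟶ P₀ := Over.homMk g₁
      let G₂ : Over.mk (g₁ ≫ P₀.hom) ⟶ P₀ := Over.homMk g₂ (by
        change g₂ ≫ pr.left ≫ T.hom = g₁ ≫ pr.left ≫ T.hom
        rw [← Category.assoc, ← hg, Category.assoc])
      have hG : G₁ ≫ pr = G₂ ≫ pr := Over.OverMorphism.ext hg
      have he : e'.app (op _) (G₁ ≫ z') = e'.app (op _) (G₂ ≫ z') := by
        rw [← app_comp, ← app_comp, hz', ← map_comp_apply', ← map_comp_apply', hG]
      have hj : (G₁ ≫ z') ≫ j' ≫ p = (G₂ ≫ z') ≫ j' ≫ p :=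
        (hw _).symm.trans ((congrArg (η.app (op (Over.mk (g₁ ≫ P₀.hom)))) he).trans (hw _))
      have := congrArg CommaMorphism.left ((hrel _ _ hj).mpr he)
      simpa [G₁, G₂, Category.assoc] using this
    let z₀ : T.left ⟶ Z.left := EffectiveEpi.desc pr.left (z' ≫ π).left hcocycle
    have hz₀ : pr.left ≫ z₀ = (z' ≫ π).left := EffectiveEpi.fac _ _ _
    haveI : Epi pr.left := inferInstance
    let z : T ⟶ Z := Over.homMk z₀ (by rw [← cancel_epi pr.left, ← Category.assoc, hz₀, Over.w, Over.w])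
    refine ⟨z, cover_injective hF pr _ _ ?_⟩
    rw [← map_comp_apply', show pr ≫ z = z' ≫ π from Over.OverMorphism.ext hz₀, hεp, hz']

end

end Groth.Agent.MagnetEt
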