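import Mathlib
import Groth.Agent.MagnetEt.AtlasFix
import Groth.Agent.MagnetEt.DescRep
import Groth.Agent.MagnetHom.AttrGlobal
import Groth.Agent.S18294
import Groth.Agent.S18299
import Groth.Agent.S18302

/-! Representability of attractors with a fixed point reflecting atlas. -/

set_option autoImplicit false
set_option maxHeartbeats 1000000
universe u

open CategoryTheory CategoryTheory.Limits MonoidalCategory CartesianMonoidalCategory MonObj AlgebraicGeometry Opposite

namespace Groth.Agent.MagnetEt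

noncomputable section

variable {S : Scheme.{u}} {M : Type} [AddCommGroup M] [AddGroup.FG M] {X U : Over S}

theorem exists_closed_attr_subgroup [IsAffineHom U.hom] (bU : Magnet.MonAct (Magnet.AMonS S M) U)
    (bX : Magnet.MonAct (Magnet.AMonS S M) X) (f : U ⟶ X) [Etale f.left] [Surjective f.left] (Z : AddSubgroup M)
    (hfZ : Magnet.MonAct.IsEquivariant (bU.restrict (Magnet.AMonS.map S (QuotientAddGroup.mk' Z)))
      (bX.restrict (Magnet.AMonS.map S (QuotientAddGroup.mk' Z))) f)
    (hfpr : IsPullback (Magnet.MonAct.fixedPsh.map f hfZ)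
      (Magnet.MonAct.fixedPshι (bU.restrict (Magnet.AMonS.map S (QuotientAddGroup.mk' Z))))
      (Magnet.MonAct.fixedPshι (bX.restrict (Magnet.AMonS.map S (QuotientAddGroup.mk' Z)))) (yoneda.map f))
    {Q : AddSubmonoid M} (hQ : Q = Z.toAddSubmonoid) :
    ∃ (W : Over S) (i : W ⟶ X) (e : (Magnet.attr bX Q).RepresentableBy W), IsClosedImmersion i.left ∧
      ∀ (T : Over S) (w : T ⟶ W), (Magnet.attrToX bX Q).app (op T) (e.homEquiv w) = w ≫ i := by
  subst hQ
  obtain ⟨eU, heU⟩ := exists_iso_fixed_quotient M Z bU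
  obtain ⟨eX, heX⟩ := exists_iso_fixed_quotient M Z bX
  obtain ⟨W', i', e', hi', he'⟩ := MagnetHom.exists_representableBy_attr bU Z.toAddSubmonoid
  obtain ⟨W, i, e, hi, he⟩ := Groth.Agent.S18299.result S (M ⧸ Z) X U
    (Magnet.MonAct.toAction (bX.restrict (Magnet.AMonS.map S (QuotientAddGroup.mk' Z))))
    (Magnet.MonAct.toAction (bU.restrict (Magnet.AMonS.map S (QuotientAddGroup.mk' Z)))) f hfZ hfpr
    ⟨W', i', Functor.representableByEquiv.symm (e'.toIso ≪≫ eU), hi', fun T w => by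
      refine Eq.trans ?_ (he' T w)
      exact congrArg (fun k => k.app (op T) (e'.homEquiv w)) heU⟩
  refine ⟨W, i, Functor.representableByEquiv.symm (e.toIso ≪≫ eX.symm), hi, fun T w => Eq.trans ?_ (he T w)⟩
  have h1 := congrArg (fun k => k.app (op T) (eX.inv.app (op T) (e.homEquiv w))) heX
  have h2 := congrArg (fun k => k.app (op T) (e.homEquiv w)) eX.inv_hom_id
  exact h1.symm.trans (congrArg ((Magnet.MonAct.fixedPshι _).app (op T)) h2)

theorem exists_rep_attr_of_atlas [IsAffineHom U.hom] (aU : AlgGrp.Action (Red.DS S M) U)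
    (aX : AlgGrp.Action (Red.DS S M) X) (f : U ⟶ X) [Etale f.left] [Surjective f.left]
    (hf : Magnet.MonAct.IsEquivariant (Magnet.MonAct.ofAction aU) (Magnet.MonAct.ofAction aX) f) (Z : AddSubgroup M)
    (hfZ : Magnet.MonAct.IsEquivariant
      ((Magnet.MonAct.ofAction aU).restrict (Magnet.AMonS.map S (QuotientAddGroup.mk' Z)))
      ((Magnet.MonAct.ofAction aX).restrict (Magnet.AMonS.map S (QuotientAddGroup.mk' Z))) f)
    (hfpr : IsPullback (Magnet.MonAct.fixedPsh.map f hfZ)
      (Magnet.MonAct.fixedPshι ((Magnet.MonAct.ofAction aU).restrict (Magnet.AMonS.map S (QuotientAddGroup.mk' Z))))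
      (Magnet.MonAct.fixedPshι ((Magnet.MonAct.ofAction aX).restrict (Magnet.AMonS.map S (QuotientAddGroup.mk' Z))))
      (yoneda.map f))
    (N Q : AddSubmonoid M) (hQ : Magnet.IsFace N Q) (hQZ : Q = Z.toAddSubmonoid)
    (h : N.FG ∨ (IsSeparated X.hom ∧ LocallyOfFinitePresentation X.hom)) :
    ∃ (ZN Zs : Over S) (eN : (Magnet.attr (Magnet.MonAct.ofAction aX) N).RepresentableBy ZN)
      (es : (Magnet.attr (Magnet.MonAct.ofAction aX) Q).RepresentableBy Zs) (j : ZN ⟶ Zs),
      IsAffineHom j.left ∧ ∀ (T : Over S) (z : T ⟶ ZN),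
        es.homEquiv (z ≫ j) = (Magnet.attrFace (Magnet.MonAct.ofAction aX) hQ).app (op T) (eN.homEquiv z) := by
  let bU := Magnet.MonAct.ofAction aU
  let bX := Magnet.MonAct.ofAction aX
  obtain ⟨W, i, es, hi, hes⟩ := exists_closed_attr_subgroup bU bX f Z hfZ hfpr hQZ
  obtain ⟨W', i', eQ, hi', heQ⟩ := MagnetHom.exists_representableBy_attr bU Q
  obtain ⟨ZU, kU, eU, hkU, -⟩ := MagnetHom.exists_representableBy_attr bU N
  let post := fun P : AddSubmonoid M => Magnet.MonAct.eqvHom.postcomp (Magnet.subAct S M P) f hf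
  let p : W' ⟶ W := es.homEquiv.symm ((post Q).app (op W') (eQ.homEquiv (𝟙 W')))
  have hpost : ∀ {T : Over S} (w : T ⟶ W'), es.homEquiv (w ≫ p) = (post Q).app (op T) (eQ.homEquiv w) := by
    intro T w
    rw [es.homEquiv_comp, Equiv.apply_symm_apply, eQ.homEquiv_eq w]
    exact (congrArg (fun k => k (eQ.homEquiv (𝟙 W'))) ((post Q).naturality w.op)).symm
  have htoX : ∀ {T : Over S} (ψ : (Magnet.attr bU Q).obj (op T)),
      (Magnet.attrToX bX Q).app (op T) ((post Q).app (op T) ψ) = (Magnet.attrToX bU Q).app (op T) ψ ≫ f := by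
    intro T ψ
    change lift (toUnit T ≫ η[Magnet.AMonS S Q]) (𝟙 T) ≫ ψ.1 ≫ f =
      (lift (toUnit T ≫ η[Magnet.AMonS S Q]) (𝟙 T) ≫ ψ.1) ≫ f
    rw [Category.assoc]
  have hpi : p ≫ i = i' ≫ f := by
    rw [← hes W' p, ← Category.id_comp p, hpost, htoX, heQ, Category.id_comp]
  haveI : Mono i.left := inferInstance
  haveI : Mono i'.left := inferInstance
  haveI : Mono i := Over.mono_of_mono_left i
  haveI : Mono i' := Over.mono_of_mono_left i'
  have hex : ∀ {T : Over S} (w : T ⟶ W) (v : T ⟶ U), w ≫ i = v ≫ f → ∃ w' : T ⟶ W', w' ≫ p = w ∧ w' ≫ i' = v := by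
    intro T w v e
    obtain ⟨ψ, hψ, hψv⟩ := exists_attr_of_fpr bU bX hf Z hfZ hfpr hQZ (es.homEquiv w) v
      (e.symm.trans (hes T w).symm)
    refine ⟨eQ.homEquiv.symm ψ, es.homEquiv.injective ?_, ?_⟩
    · rw [hpost, Equiv.apply_symm_apply]; exact Subtype.ext hψ
    · rw [← heQ, Equiv.apply_symm_apply, hψv]
  have hc : IsPullback p i' i f := by
    refine ⟨⟨hpi⟩, ⟨PullbackCone.IsLimit.mk hpi (fun s => (hex s.fst s.snd s.condition).choose)
      (fun s => (hex s.fst s.snd s.condition).choose_spec.1) (fun s => (hex s.fst s.snd s.condition).choose_spec.2)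
      (fun s m hm₁ hm₂ => (cancel_mono i').mp (hm₂.trans (hex s.fst s.snd s.condition).choose_spec.2.symm))⟩⟩
  have hcl : IsPullback p.left i'.left i.left f.left := hc.map (Over.forget S)
  haveI : Flat p.left := MorphismProperty.of_isPullback hcl.flip inferInstance
  haveI : LocallyOfFinitePresentation p.left := MorphismProperty.of_isPullback hcl.flip inferInstance
  haveI : Surjective p.left := MorphismProperty.of_isPullback hcl.flip inferInstance
  let j' : ZU ⟶ W' := eQ.homEquiv.symm ((Magnet.attrFace bU hQ).app (op ZU) (eU.homEquiv (𝟙 ZU)))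
  haveI : IsAffineHom ZU.hom := by rw [← Over.w kU]; infer_instance
  haveI : IsAffineHom W'.hom := by rw [← Over.w i']; infer_instance
  haveI : IsAffineHom j'.left := by
    haveI : IsAffineHom (j'.left ≫ W'.hom) := by rw [Over.w j']; infer_instance
    exact IsAffineHom.of_comp j'.left W'.hom
  let ηF : Magnet.attr bX N ⟶ yoneda.obj W := Magnet.attrFace bX hQ ≫ es.toIso.inv
  let e' : yoneda.obj ZU ⟶ Magnet.attr bX N := eU.toIso.hom ≫ post N
  have hpb₀ := Groth.Agent.S18302.result S M X U aX aU f hf N Q hQ h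
  have hj' : eU.toIso.hom ≫ Magnet.attrFace bU hQ = yoneda.map j' ≫ eQ.toIso.hom := by
    ext T z
    obtain ⟨T⟩ := T
    change (Magnet.attrFace bU hQ).app (op T) (eU.homEquiv z) = eQ.homEquiv (z ≫ j')
    rw [eQ.homEquiv_comp, Equiv.apply_symm_apply, eU.homEquiv_eq z]
    exact congrArg (fun k => k (eU.homEquiv (𝟙 ZU))) ((Magnet.attrFace bU hQ).naturality z.op)
  have hp' : eQ.toIso.hom ≫ post Q = yoneda.map p ≫ es.toIso.hom := by
    ext T z
    obtain ⟨T⟩ := T
    exact (hpost z).symm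
  have hpb : IsPullback e' (yoneda.map j') ηF (yoneda.map p) := by
    refine hpb₀.of_iso eU.toIso.symm (Iso.refl _) eQ.toIso.symm es.toIso.symm ?_ ?_ ?_ ?_
    · exact ((Category.comp_id _).trans (Iso.inv_hom_id_assoc _ _).symm)
    · change Magnet.attrFace bU hQ ≫ eQ.toIso.inv = eU.toIso.inv ≫ yoneda.map j'
      rw [Iso.comp_inv_eq, Category.assoc, ← hj', Iso.inv_hom_id_assoc]
    · exact (Category.id_comp _).symm
    · change post Q ≫ es.toIso.inv = eQ.toIso.inv ≫ yoneda.map p
      rw [Iso.comp_inv_eq, Category.assoc, ← hp', Iso.inv_hom_id_assoc]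
  obtain ⟨ZN, j, eN, hj, hjη⟩ := exists_representableBy_of_affine_cover
    (Groth.Agent.S18294.result S _ _ X (Magnet.subAct S M N) bX) ηF p j' e' hpb
  refine ⟨ZN, W, eN, es, j, hj, fun T z => ?_⟩
  rw [← hjη]
  exact es.homEquiv.apply_symm_apply _

end

end Groth.Agent.MagnetEt
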